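import Groth.Agent.NodeAlg15.Geom
import Groth.Agent.CStk17.NodeFacts
import Groth.Agent.CStk17.FibNode
import Groth.Agent.CStk17.PtConds
import Groth.Agent.FibDim.BaseField
import Groth.Agent.VarDim.Top
import Groth.Agent.VarDim.Fibre
import Groth.Agent.GerbFlat.Scheme
import Groth.Agent.GeomField.Reduced
import Mathlib.AlgebraicGeometry.Morphisms.FormallyUnramified

/-!
# Nodal curves over a field: étale maps, finite separable and arbitrary extensions of the field

Fibre conditions of nodal families.
-/

set_option autoImplicit false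
set_option backward.isDefEq.respectTransparency false
set_option backward.isDefEq.respectTransparency.types false
set_option linter.style.haveILetI false

universe u

open CategoryTheory CategoryTheory.Limits AlgebraicGeometry IsLocalRing

namespace Groth.Agent.NodeAlg15.Fam

open CStk17.NodeSch CStk17.PtConds

/-- All components one-dimensional and at-worst-nodal singularities. -/
def IsNodalCurve {k : Type u} [Field k] {X : Scheme.{u}} (p : X ⟶ Spec (CommRingCat.of k)) : Prop :=
  (∀ Z ∈ irreducibleComponents (X : Type u), topologicalKrullDim Z = 1) ∧ IsAWN p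

theorem isNodalFamily_iff {X S : Scheme.{u}} (f : X ⟶ S) :
    Curv2.IsNodalFamily f ↔ Flat f ∧ LocallyOfFinitePresentation f ∧
      ∀ s : S, IsNodalCurve (k := S.residueField s) (f.fiberToSpecResidueField s) := Iff.rfl

theorem exists_smooth_open {Y S : Scheme.{u}} (q : Y ⟶ S) [LocallyOfFinitePresentation q] {y : Y}
    (h : SmoothAt q y) : ∃ U : Y.Opens, y ∈ U ∧ Smooth (U.ι ≫ q) := by
  refine ⟨q.smoothLocus, h, ?_⟩
  rw [← Scheme.Hom.smoothLocus_eq_top_iff, ← Scheme.Hom.preimage_smoothLocus_eq]
  exact Scheme.Opens.ι_preimage_self _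

theorem smoothAt_of_open {Y S : Scheme.{u}} (q : Y ⟶ S) [LocallyOfFinitePresentation q] {y : Y}
    (U : Y.Opens) (hy : y ∈ U) [Smooth (U.ι ≫ q)] : SmoothAt q y :=
  CStk17.FibNode.smoothLocus_of_open q U hy

section Residue

variable {X Y : Scheme.{u}} (g : Y ⟶ X)

/-- Étale maps have residue extensions of transcendence degree zero. -/
theorem fdeg_eq_zero [Etale g] (y : Y) : VarDim.fdeg g y = 0 := by
  have h : VarDim.rdeg g y = 0 := by
    letI := (g.residueFieldMap y).hom.toAlgebra
    haveI : Algebra.IsSeparable (X.residueField (g y)) (Y.residueField y) := inferInstance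
    exact trdeg_eq_zero
  rw [VarDim.fdeg, h, Cardinal.zero_toNat]

/-- Residue extensions of étale maps are finite and separable. -/
theorem residue_etale [Etale g] (y : Y) :
    letI : Algebra (X.residueField (g y)) (Y.residueField y) := (g.residueFieldMap y).hom.toAlgebra
    Module.Finite (X.residueField (g y)) (Y.residueField y) ∧
      Algebra.IsSeparable (X.residueField (g y)) (Y.residueField y) := by
  letI := (g.residueFieldMap y).hom.toAlgebra
  refine ⟨?_, inferInstance⟩
  letI : Algebra (X.presheaf.stalk (g y)) (Y.presheaf.stalk y) := (g.stalkMap y).hom.toAlgebra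
  haveI : IsLocalHom (algebraMap (X.presheaf.stalk (g y)) (Y.presheaf.stalk y)) :=
    inferInstanceAs <| IsLocalHom (g.stalkMap y).hom
  haveI : Algebra.EssFiniteType (X.presheaf.stalk (g y)) (Y.presheaf.stalk y) := by
    rw [← RingHom.essFiniteType_algebraMap, RingHom.algebraMap_toAlgebra]
    exact LocallyOfFiniteType.stalkMap g y
  haveI : Algebra.FormallyUnramified (X.presheaf.stalk (g y)) (Y.presheaf.stalk y) := by
    rw [← RingHom.formallyUnramified_algebraMap, RingHom.algebraMap_toAlgebra]
    exact FormallyUnramified.stalkMap g y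
  have h : Module.Finite (ResidueField (X.presheaf.stalk (g y))) (ResidueField (Y.presheaf.stalk y)) := inferInstance
  haveI := h
  refine Module.Finite.of_equiv_equiv
    (RingEquiv.refl _ : ResidueField (X.presheaf.stalk (g y)) ≃+* X.residueField (g y))
    (RingEquiv.refl _ : ResidueField (Y.presheaf.stalk y) ≃+* Y.residueField y) ?_
  refine RingHom.ext fun (x : ResidueField (X.presheaf.stalk (g y))) => ?_
  obtain ⟨x, rfl⟩ := IsLocalRing.residue_surjective (R := X.presheaf.stalk (g y)) x
  rfl

end Residue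

variable {k : Type u} [Field k] {X : Scheme.{u}} (p : X ⟶ Spec (CommRingCat.of k)) [LocallyOfFiniteType p]

/-- Nodes are reflected and preserved by étale maps. -/
theorem isNodeOf_etale_iff {Y : Scheme.{u}} (g : Y ⟶ X) [Etale g] (y : Y) :
    IsNodeOf p (g y) ↔ IsNodeOf (g ≫ p) y :=
  letI : X.Over (Spec (CommRingCat.of k)) := ⟨p⟩
  haveI : LocallyOfFiniteType (X ↘ Spec (CommRingCat.of k)) := ‹LocallyOfFiniteType p›
  Geom.isNode_etale_iff (k := k) g y

/-- Nodal curves are stable under étale maps. -/
theorem isNodalCurve_etale {Y : Scheme.{u}} (g : Y ⟶ X) [Etale g] (h : IsNodalCurve p) :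
    IsNodalCurve (g ≫ p) := by
  refine ⟨fun Z hZ => ?_, isAWN_etale p h.2 g⟩
  obtain ⟨w, rfl, hw⟩ := FDescent.exists_maximal_of_mem_irreducibleComponents hZ
  have hmax : ∀ x, x ⤳ g w → x = g w := fun x hx => by
    obtain ⟨v, hv, rfl⟩ := Flat.generalizingMap g hx
    rw [hw v hv]
  have h1 := h.1 _ (FDescent.closure_mem_irreducibleComponents hmax)
  rw [VarDim.topologicalKrullDim_closure_singleton (k := k) p] at h1
  rw [VarDim.topologicalKrullDim_closure_singleton (k := k) (g ≫ p), VarDim.deg_comp_eq g p,
    fdeg_eq_zero g, add_zero, h1]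

/-- Nodal curves descend along jointly surjective étale families. -/
theorem isNodalCurve_of_etale_cover [LocallyOfFinitePresentation p] {ι : Type*} {Y : ι → Scheme.{u}}
    (g : ∀ i, Y i ⟶ X) [∀ i, Etale (g i)] (hg : ∀ x : X, ∃ i, x ∈ Set.range (g i))
    (h : ∀ i, IsNodalCurve (g i ≫ p)) : IsNodalCurve p := by
  constructor
  · intro Z hZ
    obtain ⟨η, rfl, hη⟩ := FDescent.exists_maximal_of_mem_irreducibleComponents hZ
    obtain ⟨i, w₀, rfl⟩ := hg η
    obtain ⟨w, hww₀, hw⟩ := FibDim.exists_maximal_generization w₀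
    have he : g i w = g i w₀ := hη _ (hww₀.map (g i).continuous)
    have h1 := (h i).1 _ (FDescent.closure_mem_irreducibleComponents hw)
    rw [VarDim.topologicalKrullDim_closure_singleton (k := k) (g i ≫ p), VarDim.deg_comp_eq (g i) p,
      fdeg_eq_zero (g i), add_zero, he] at h1
    rw [VarDim.topologicalKrullDim_closure_singleton (k := k) p, h1]
  · intro x hx
    obtain ⟨i, y₀, hy₀⟩ := hg x
    haveI : JacobsonSpace (Y i) := LocallyOfFiniteType.jacobsonSpace (g i ≫ p)
    obtain ⟨y, hy, hyc⟩ := nonempty_inter_closedPoints (Z := g i ⁻¹' {x}) ⟨y₀, hy₀⟩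
      (hx.preimage (g i).continuous).isLocallyClosed
    obtain rfl : g i y = x := hy
    rcases (h i).2 y hyc with ⟨U, hU, hsm⟩ | hn
    · haveI : Smooth (U.ι ≫ g i ≫ p) := hsm
      exact Or.inl (exists_smooth_open p ((smoothAt_precomp (g i) p y).1 (smoothAt_of_open (g i ≫ p) U hU)))
    · exact Or.inr ((isNodeOf_etale_iff p (g i) y).2 hn)

/-- Nodes over a finite separable extension of the field. -/
theorem isNodeOf_base_iff {l : Type u} [Field l] [Algebra l k] [FiniteDimensional l k] [Algebra.IsSeparable l k]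
    (x : X) : IsNodeOf p x ↔ IsNodeOf (p ≫ Spec.map (CommRingCat.ofHom (algebraMap l k))) x := by
  haveI : IsFinite (Spec.map (CommRingCat.ofHom (algebraMap l k))) :=
    (IsFinite.SpecMap_iff _).2 (RingHom.finite_algebraMap.2 inferInstance)
  have hbase := CStk17.SchPt.sMap_base (algebraMap l k) p x
  let q := p ≫ Spec.map (CommRingCat.ofHom (algebraMap l k))
  have h1 : IsNodeOf p x ↔ IsClosed ({x} : Set X) ∧
      (letI := CStk17.SchPt.sAlg p x; Algebra.IsSeparable k (ResidueField (X.presheaf.stalk x))) ∧
        IsQuadNode (X.presheaf.stalk x) :=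
    letI : X.Over (Spec (CommRingCat.of k)) := ⟨p⟩
    haveI : LocallyOfFiniteType (X ↘ Spec (CommRingCat.of k)) := ‹LocallyOfFiniteType p›
    Geom.isNode_iff (k := k) x
  have h2 : IsNodeOf q x ↔ IsClosed ({x} : Set X) ∧
      (letI := CStk17.SchPt.sAlg q x; Algebra.IsSeparable l (ResidueField (X.presheaf.stalk x))) ∧
        IsQuadNode (X.presheaf.stalk x) :=
    letI : X.Over (Spec (CommRingCat.of l)) := ⟨q⟩
    haveI : LocallyOfFiniteType (X ↘ Spec (CommRingCat.of l)) := inferInstanceAs <| LocallyOfFiniteType q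
    Geom.isNode_iff (k := l) x
  rw [h1, h2]
  letI := CStk17.SchPt.sAlg p x
  letI := CStk17.SchPt.sAlg q x
  haveI : IsScalarTower l k (X.presheaf.stalk x) := IsScalarTower.of_algebraMap_eq' hbase
  haveI : IsScalarTower l k (ResidueField (X.presheaf.stalk x)) :=
    IsScalarTower.of_algebraMap_eq fun t => congrArg (residue _) (RingHom.congr_fun hbase t)
  refine and_congr_right fun _ => and_congr_left fun _ => ⟨fun h => ?_, fun h => ?_⟩
  · haveI := h
    exact Algebra.IsSeparable.trans l k (ResidueField (X.presheaf.stalk x))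
  · haveI := h
    exact Algebra.isSeparable_tower_top_of_isSeparable l k (ResidueField (X.presheaf.stalk x))

/-- A nodal curve over a finite separable extension of the field is one over the field. -/
theorem isNodalCurve_base {l : Type u} [Field l] [Algebra l k] [FiniteDimensional l k] [Algebra.IsSeparable l k]
    (h : IsNodalCurve p) : IsNodalCurve (p ≫ Spec.map (CommRingCat.ofHom (algebraMap l k))) := by
  haveI : Etale (Spec.map (CommRingCat.ofHom (algebraMap l k))) := by
    rw [HasRingHomProperty.Spec_iff (P := @Etale)]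
    haveI : Algebra.FormallyEtale l k := Algebra.FormallyEtale.of_isSeparable l k
    exact RingHom.etale_algebraMap.2
      { formallyEtale := inferInstance, finitePresentation := Algebra.FinitePresentation.of_finiteType.1 inferInstance }
  refine ⟨h.1, fun x hx => ?_⟩
  rcases h.2 x hx with ⟨U, hU, hsm⟩ | hn
  · haveI : Smooth (U.ι ≫ p) := hsm
    refine Or.inl ⟨U, hU, ?_⟩
    show Smooth (U.ι ≫ p ≫ Spec.map (CommRingCat.ofHom (algebraMap l k)))
    rw [← Category.assoc]
    infer_instance
  · exact Or.inr ((isNodeOf_base_iff p x).1 hn)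

section BaseChange

variable [LocallyOfFinitePresentation p] {K : Type u} [Field K] (j : k →+* K)
  {Z : Scheme.{u}} {g : Z ⟶ X} {r : Z ⟶ Spec (CommRingCat.of K)}
  (sq : IsPullback g r p (Spec.map (CommRingCat.ofHom j)))

include sq

/-- Nodes descend along extensions of the field. -/
theorem isNodeOf_of_bc {z : Z} (hz : IsNodeOf r z) : IsNodeOf p (g z) := by
  letI := j.toAlgebra
  letI : X.Over (Spec (CommRingCat.of k)) := ⟨p⟩
  haveI : LocallyOfFiniteType (X ↘ Spec (CommRingCat.of k)) := ‹LocallyOfFiniteType p›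
  haveI : LocallyOfFiniteType r := MorphismProperty.of_isPullback sq ‹LocallyOfFiniteType p›
  let φ : Z ≅ Curv2.bc k X K := sq.isoPullback
  have hφ1 : φ.hom ≫ Curv2.bcFst k X K = g := sq.isoPullback_hom_fst
  have hφ2 : φ.hom ≫ Curv2.bcSnd k X K = r := sq.isoPullback_hom_snd
  have h : IsNodeOf (Curv2.bcSnd k X K) (φ.hom z) := by
    haveI : LocallyOfFiniteType (Curv2.bcSnd k X K) := MorphismProperty.pullback_snd _ _ ‹LocallyOfFiniteType p›
    refine (isNodeOf_etale_iff (Curv2.bcSnd k X K) φ.hom z).2 ?_
    rwa [hφ2]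
  haveI : LocallyOfFiniteType (Curv2.bcSnd k X K) := MorphismProperty.pullback_snd _ _ ‹LocallyOfFiniteType p›
  letI : (Curv2.bc k X K).Over (Spec (CommRingCat.of K)) := ⟨Curv2.bcSnd k X K⟩
  haveI : LocallyOfFiniteType ((Curv2.bc k X K) ↘ Spec (CommRingCat.of K)) :=
    inferInstanceAs <| LocallyOfFiniteType (Curv2.bcSnd k X K)
  rw [← hφ1, Scheme.Hom.comp_apply]
  obtain ⟨hy, yb, hyb, hodp⟩ := h
  let j₁ := Spec.map (CommRingCat.ofHom (algebraMap k K))
  let j' := Spec.map (CommRingCat.ofHom (algebraMap K (AlgebraicClosure K)))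
  haveI : LocallyOfFiniteType (pullback.snd (pullback.snd p j₁) j') :=
    MorphismProperty.pullback_snd _ _ ‹LocallyOfFiniteType (Curv2.bcSnd k X K)›
  have hcomp : j' ≫ j₁ = Spec.map (CommRingCat.ofHom (algebraMap k (AlgebraicClosure K))) := by
    rw [← Spec.map_comp, ← CommRingCat.ofHom_comp, ← IsScalarTower.algebraMap_eq]
  let ψ : pullback (pullback.snd p j₁) j' ≅ Curv2.bc k X (AlgebraicClosure K) :=
    pullbackLeftPullbackSndIso p j₁ j' ≪≫ pullback.congrHom rfl hcomp
  have hfst : ψ.hom ≫ Curv2.bcFst k X (AlgebraicClosure K) =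
      pullback.fst (pullback.snd p j₁) j' ≫ pullback.fst p j₁ := by
    show ψ.hom ≫ pullback.fst p (Spec.map (CommRingCat.ofHom (algebraMap k (AlgebraicClosure K)))) = _
    simp [ψ]
  have hc : IsClosed ({yb} : Set ↥(pullback (pullback.snd p j₁) j')) :=
    Geom.isClosed_of_bcFst (k := K) (X := Curv2.bc k X K) (hyb ▸ hy)
  have hq : IsQuadNode ((pullback (pullback.snd p j₁) j').presheaf.stalk yb) :=
    Geom.isQuadNode_of_isODPAt (q := pullback.snd (pullback.snd p j₁) j') hodp
  haveI : LocallyOfFiniteType (Curv2.bcSnd k X (AlgebraicClosure K)) :=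
    MorphismProperty.pullback_snd _ _ ‹LocallyOfFiniteType p›
  haveI : IsLocallyNoetherian (Curv2.bc k X (AlgebraicClosure K)) :=
    LocallyOfFiniteType.isLocallyNoetherian (Curv2.bcSnd k X (AlgebraicClosure K))
  haveI : IsLocallyNoetherian (pullback (pullback.snd p j₁) j') :=
    LocallyOfFiniteType.isLocallyNoetherian (pullback.snd (pullback.snd p j₁) j')
  have hzc : IsClosed ({ψ.hom yb} : Set ↥(Curv2.bc k X (AlgebraicClosure K))) := by
    have := ψ.hom.homeomorph.isClosedMap _ hc
    rwa [Set.image_singleton] at this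
  obtain ⟨h1, h2, h3⟩ := Geom.of_bc_isQuadNode (z := ψ.hom yb) hzc
    (isQuadNode_of_ringEquiv (asIso (ψ.hom.stalkMap yb)).commRingCatIsoToRingEquiv.symm hq)
  have hx : Curv2.bcFst k X (AlgebraicClosure K) (ψ.hom yb) = Curv2.bcFst k X K (φ.hom z) := by
    rw [← Scheme.Hom.comp_apply, hfst, Scheme.Hom.comp_apply]
    exact congrArg _ hyb
  rw [← hx]
  exact (Geom.isNode_iff (k := k) _).2 ⟨h1, h2, h3⟩

/-- Nodal curves descend along extensions of the field. -/
theorem isNodalCurve_of_bc (h : IsNodalCurve r) : IsNodalCurve p := by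
  haveI : Subsingleton ↥(Spec (CommRingCat.of k)) := FibDim.subsingleton_spec_field k
  haveI : Subsingleton ↥(Spec (CommRingCat.of K)) := FibDim.subsingleton_spec_field K
  haveI : Flat (Spec.map (CommRingCat.ofHom j)) := by
    refine (HasRingHomProperty.Spec_iff (P := @Flat)).2 ?_
    letI := j.toAlgebra
    show Module.Flat k K
    infer_instance
  haveI : Surjective (Spec.map (CommRingCat.ofHom j)) := ⟨fun x => ⟨closedPoint K, Subsingleton.elim _ _⟩⟩
  haveI : LocallyOfFiniteType r := MorphismProperty.of_isPullback sq ‹LocallyOfFiniteType p›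
  haveI : LocallyOfFinitePresentation r := MorphismProperty.of_isPullback sq ‹LocallyOfFinitePresentation p›
  refine ⟨fun W hW => ?_, fun x hx => ?_⟩
  · obtain ⟨W', hW', he⟩ := (FibDim.component_dims_baseChange sq).ge ⟨W, hW, rfl⟩
    exact he.symm.trans (h.1 W' hW')
  · haveI : Surjective g := MorphismProperty.of_isPullback sq.flip ‹Surjective (Spec.map (CommRingCat.ofHom j))›
    obtain ⟨z₀, hz₀⟩ := g.surjective x
    haveI : JacobsonSpace Z := LocallyOfFiniteType.jacobsonSpace r
    obtain ⟨z, hz, hzc⟩ := nonempty_inter_closedPoints (Z := g ⁻¹' {x}) ⟨z₀, hz₀⟩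
      (hx.preimage g.continuous).isLocallyClosed
    obtain rfl : g z = x := hz
    rcases h.2 z hzc with ⟨U, hU, hsm⟩ | hn
    · haveI : Smooth (U.ι ≫ r) := hsm
      exact Or.inl (exists_smooth_open p (MorLib.SmoothLoc.sm_descend p _ r g sq z (smoothAt_of_open r U hU)))
    · exact Or.inr (isNodeOf_of_bc p j sq hn)

end BaseChange

section Families

/-- The fibre condition after an étale map on the source. -/
theorem isNodalCurve_fiber_comp {X Y S : Scheme.{u}} (g : Y ⟶ X) [Etale g] (f : X ⟶ S)
    [LocallyOfFinitePresentation f] (s : S) :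
    IsNodalCurve (k := S.residueField s) (f.fiberToSpecResidueField s) →
      IsNodalCurve (k := S.residueField s) ((g ≫ f).fiberToSpecResidueField s) := fun h => by
  haveI : Etale (MoreMor.fiberMap g f s) :=
    MorphismProperty.of_isPullback (GerbFlat.isPullback_fiberMap g f s) ‹Etale g›
  haveI : LocallyOfFiniteType (f.fiberToSpecResidueField s) := VarDim.locallyOfFiniteType_fiberToSpec f s
  have := isNodalCurve_etale (k := S.residueField s) (f.fiberToSpecResidueField s) (MoreMor.fiberMap g f s) h
  rwa [show MoreMor.fiberMap g f s ≫ f.fiberToSpecResidueField s = (g ≫ f).fiberToSpecResidueField s from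
    pullback.lift_snd _ _ _] at this

/-- The fibre condition descends along étale covers of the source. -/
theorem isNodalCurve_fiber_of_cover {X S : Scheme.{u}} (f : X ⟶ S) [LocallyOfFinitePresentation f]
    {ι : Type*} {U : ι → Scheme.{u}} (g : ∀ i, U i ⟶ X) [∀ i, Etale (g i)]
    (hg : ∀ x : X, ∃ i, x ∈ Set.range (g i)) (s : S)
    (h : ∀ i, IsNodalCurve (k := S.residueField s) ((g i ≫ f).fiberToSpecResidueField s)) :
    IsNodalCurve (k := S.residueField s) (f.fiberToSpecResidueField s) := by
  haveI : LocallyOfFiniteType (f.fiberToSpecResidueField s) := VarDim.locallyOfFiniteType_fiberToSpec f s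
  haveI : LocallyOfFinitePresentation (f.fiberToSpecResidueField s) :=
    MorphismProperty.pullback_snd _ _ ‹LocallyOfFinitePresentation f›
  haveI : ∀ i, Etale (MoreMor.fiberMap (g i) f s) := fun i =>
    MorphismProperty.of_isPullback (GerbFlat.isPullback_fiberMap (g i) f s) (inferInstance : Etale (g i))
  refine isNodalCurve_of_etale_cover (k := S.residueField s) (f.fiberToSpecResidueField s)
    (fun i => MoreMor.fiberMap (g i) f s) (fun z => ?_) fun i => ?_
  · obtain ⟨i, u, hu⟩ := hg (f.fiberι s z)
    obtain ⟨w, -, hw⟩ := Scheme.exists_preimage_of_isPullback (GerbFlat.isPullback_fiberMap (g i) f s) u z hu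
    exact ⟨i, w, hw⟩
  · rw [show MoreMor.fiberMap (g i) f s ≫ f.fiberToSpecResidueField s = (g i ≫ f).fiberToSpecResidueField s from
      pullback.lift_snd _ _ _]
    exact h i

/-- The fibre condition after an étale map on the base. -/
theorem isNodalCurve_fiber_postcomp {X S' S : Scheme.{u}} (f : X ⟶ S') [LocallyOfFinitePresentation f]
    (e : S' ⟶ S) [Etale e] (h : ∀ s' : S', IsNodalCurve (k := S'.residueField s') (f.fiberToSpecResidueField s'))
    (s : S) : IsNodalCurve (k := S.residueField s) ((f ≫ e).fiberToSpecResidueField s) := by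
  haveI : LocallyOfFinitePresentation ((f ≫ e).fiberToSpecResidueField s) :=
    MorphismProperty.pullback_snd _ _ inferInstance
  haveI : LocallyOfFiniteType ((f ≫ e).fiberToSpecResidueField s) := VarDim.locallyOfFiniteType_fiberToSpec _ s
  haveI : Etale (e.fiberToSpecResidueField s) := MorphismProperty.pullback_snd _ _ ‹Etale e›
  have key : ∀ s' : S', e s' = s → ∃ (F : Scheme.{u}) (j : F ⟶ (f ≫ e).fiber s), Etale j ∧
      IsNodalCurve (k := S.residueField s) (j ≫ (f ≫ e).fiberToSpecResidueField s) ∧
      ∀ z, f ((f ≫ e).fiberι s z) = s' → z ∈ Set.range j := by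
    rintro s' rfl
    obtain ⟨hfin, hsep⟩ := residue_etale e s'
    letI := (e.residueFieldMap s').hom.toAlgebra
    haveI := hfin
    haveI := hsep
    let q : Spec (S'.residueField s') ⟶ e.fiber (e s') :=
      pullback.lift (S'.fromSpecResidueField s') (Spec.map (e.residueFieldMap s'))
        (Scheme.Hom.SpecMap_residueFieldMap_fromSpecResidueField _ _).symm
    have hq1 : q ≫ e.fiberι (e s') = S'.fromSpecResidueField s' := pullback.lift_fst _ _ _
    have hq2 : q ≫ e.fiberToSpecResidueField (e s') = Spec.map (e.residueFieldMap s') := pullback.lift_snd _ _ _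
    haveI : Etale (q ≫ e.fiberToSpecResidueField (e s')) := by
      rw [hq2, HasRingHomProperty.Spec_iff (P := @Etale)]
      haveI : Algebra.FormallyEtale (S.residueField (e s')) (S'.residueField s') :=
        Algebra.FormallyEtale.of_isSeparable _ _
      exact RingHom.etale_algebraMap.2
        { formallyEtale := inferInstance, finitePresentation := Algebra.FinitePresentation.of_finiteType.1 inferInstance }
    haveI : Etale q := Etale.of_comp q (e.fiberToSpecResidueField (e s'))
    let j : f.fiber s' ⟶ (f ≫ e).fiber (e s') :=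
      (GerbFlat.isPullback_fiberMap f e (e s')).lift (f.fiberι s') (f.fiberToSpecResidueField s' ≫ q)
        (by rw [Category.assoc, hq1]; exact f.fiber_fac s')
    have hsq : IsPullback j (f.fiberToSpecResidueField s') (MoreMor.fiberMap f e (e s')) q := by
      refine IsPullback.of_right ?_ ((GerbFlat.isPullback_fiberMap f e (e s')).lift_snd _ _ _)
        (GerbFlat.isPullback_fiberMap f e (e s'))
      rw [(GerbFlat.isPullback_fiberMap f e (e s')).lift_fst, hq1]
      exact IsPullback.of_hasPullback _ _
    haveI : Etale j := MorphismProperty.of_isPullback hsq.flip ‹Etale q›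
    refine ⟨f.fiber s', j, ‹_›, ?_, fun z hz => ?_⟩
    · have he : j ≫ (f ≫ e).fiberToSpecResidueField (e s') =
          f.fiberToSpecResidueField s' ≫ Spec.map (e.residueFieldMap s') := by
        rw [← hq2, ← show MoreMor.fiberMap f e (e s') ≫ e.fiberToSpecResidueField (e s') =
          (f ≫ e).fiberToSpecResidueField (e s') from pullback.lift_snd _ _ _, ← Category.assoc, hsq.w, Category.assoc]
      rw [he]
      haveI : LocallyOfFiniteType (f.fiberToSpecResidueField s') := VarDim.locallyOfFiniteType_fiberToSpec f s'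
      exact isNodalCurve_base (k := S'.residueField s') (f.fiberToSpecResidueField s') (h s')
    · obtain ⟨w, hw, -⟩ := Scheme.exists_preimage_of_isPullback hsq z (closedPoint (S'.residueField s'))
        ((e.fiberι (e s')).injective (by
          rw [← Scheme.Hom.comp_apply, ← (GerbFlat.isPullback_fiberMap f e (e s')).w, Scheme.Hom.comp_apply, hz,
            ← Scheme.Hom.comp_apply, hq1, Scheme.fromSpecResidueField_apply]))
      exact ⟨w, hw⟩
  choose F j hj hnod hcov using key
  haveI : ∀ s' : {s' : S' // e s' = s}, Etale (j s'.1 s'.2) := fun s' => hj s'.1 s'.2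
  refine isNodalCurve_of_etale_cover (k := S.residueField s) _ (fun s' : {s' : S' // e s' = s} => j s'.1 s'.2)
    (fun z => ⟨⟨f ((f ≫ e).fiberι s z), ?_⟩, hcov _ ?_ z rfl⟩) fun s' => hnod s'.1 s'.2
  · exact (Scheme.Hom.comp_apply f e _).symm.trans (FibDim.fiber_apply_fiberι (f ≫ e) z)
  · exact (Scheme.Hom.comp_apply f e _).symm.trans (FibDim.fiber_apply_fiberι (f ≫ e) z)

end Families

end Groth.Agent.NodeAlg15.Fam
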