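import Groth.Agent.NodeAlg15.Completion
import Mathlib.RingTheory.Flat.FaithfullyFlat.Algebra

/-!
# Quadratic nodes as local rings, and their behaviour in unramified flat extensions
-/

set_option autoImplicit false
set_option linter.style.haveILetI false

universe u

namespace Groth.Agent.NodeAlg15

open IsLocalRing

/-- A local ring is a quadratic node: two generators of the maximal ideal, a regular element, and a
nondegenerate quadratic relation modulo the cube. -/
def IsQuadNode (A : Type u) [CommRing A] [IsLocalRing A] : Prop :=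
  (maximalIdeal A).spanFinrank = 2 ∧ (∃ r ∈ maximalIdeal A, r ∈ nonZeroDivisors A) ∧
    ∃ x y a b c : A, maximalIdeal A = Ideal.span {x, y} ∧ IsUnit (4 * a * c - b ^ 2) ∧
      quad a b c x y ∈ maximalIdeal A ^ 3

variable {A : Type u} [CommRing A] [IsLocalRing A]

theorem spanFinrank_eq_two_iff [IsNoetherianRing A] {x y : A} (h : maximalIdeal A = Ideal.span {x, y}) :
    (maximalIdeal A).spanFinrank = 2 ↔ x ∉ Ideal.span {y} ∧ y ∉ Ideal.span {x} := by
  have hle : (maximalIdeal A).spanFinrank ≤ 2 := by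
    rw [h]
    exact (Submodule.spanFinrank_span_le_ncard_of_finite (Set.toFinite _)).trans
      ((Set.ncard_insert_le _ _).trans (by simp))
  constructor
  · intro h2
    constructor
    · intro hx
      have : maximalIdeal A = Ideal.span {y} := h.trans (le_antisymm
        (Ideal.span_le.2 (by simp [Set.insert_subset_iff, hx, Ideal.mem_span_singleton_self]))
        (Ideal.span_mono (by simp)))
      rw [this] at h2
      have := (Submodule.spanFinrank_span_le_ncard_of_finite (R := A) (Set.toFinite ({y} : Set A)))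
      simp only [Set.ncard_singleton] at this
      rw [show Submodule.span A {y} = Ideal.span {y} from rfl] at this
      omega
    · intro hy
      have : maximalIdeal A = Ideal.span {x} := h.trans (le_antisymm
        (Ideal.span_le.2 (by simp [Set.insert_subset_iff, hy, Ideal.mem_span_singleton_self]))
        (Ideal.span_mono (by simp)))
      rw [this] at h2
      have := (Submodule.spanFinrank_span_le_ncard_of_finite (R := A) (Set.toFinite ({x} : Set A)))
      simp only [Set.ncard_singleton] at this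
      rw [show Submodule.span A {x} = Ideal.span {x} from rfl] at this
      omega
  · rintro ⟨hx, hy⟩
    by_contra hne
    have hpr : (maximalIdeal A).IsPrincipal := by
      rcases Nat.eq_zero_or_pos (maximalIdeal A).spanFinrank with hz | hz
      · rw [Submodule.spanFinrank_eq_zero_iff_eq_bot (IsNoetherian.noetherian _)] at hz
        rw [hz]; infer_instance
      · exact ((Submodule.spanFinrank_eq_one_iff _).1 (by omega)).1
    obtain ⟨z, hz⟩ := hpr.principal
    have hzspan : maximalIdeal A = Ideal.span {z} := hz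
    obtain ⟨s, hs⟩ := Ideal.mem_span_singleton'.1 (hzspan ▸ (h ▸ Ideal.subset_span (by simp) : x ∈ maximalIdeal A))
    obtain ⟨t, ht⟩ := Ideal.mem_span_singleton'.1 (hzspan ▸ (h ▸ Ideal.subset_span (by simp) : y ∈ maximalIdeal A))
    obtain ⟨p, q, hpq⟩ := Ideal.mem_span_pair.1 (h ▸ (hzspan ▸ Ideal.mem_span_singleton_self z) : z ∈ Ideal.span {x, y})
    by_cases hsu : IsUnit s
    · obtain ⟨e, he⟩ := hsu.exists_left_inv
      exact hy (Ideal.mem_span_singleton'.2 ⟨t * e, by rw [← hs, ← ht]; linear_combination t * z * he⟩)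
    · by_cases htu : IsUnit t
      · obtain ⟨e, he⟩ := htu.exists_left_inv
        exact hx (Ideal.mem_span_singleton'.2 ⟨s * e, by rw [← hs, ← ht]; linear_combination s * z * he⟩)
      · have h0 : z = 0 := by
          have hm : (1 - (p * s + q * t)) * z = 0 := by rw [← hs, ← ht] at hpq; linear_combination -hpq
          have hps : p * s + q * t ∈ maximalIdeal A :=
            add_mem (Ideal.mul_mem_left _ _ ((mem_maximalIdeal _).2 hsu))
              (Ideal.mul_mem_left _ _ ((mem_maximalIdeal _).2 htu))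
          exact (isUnit_one_sub_self_of_mem_nonunits _ hps).mul_right_eq_zero.1 hm
        rw [h0, mul_zero] at hs
        exact hx (hs ▸ zero_mem _)

theorem exists_unit_coeff {a b c : A} (hu : IsUnit (4 * a * c - b ^ 2)) : IsUnit a ∨ IsUnit b ∨ IsUnit c := by
  by_contra! h
  obtain ⟨ha, hb, -⟩ := h
  refine (mem_maximalIdeal _).1 ?_ hu
  exact sub_mem (Ideal.mul_mem_right _ _ (Ideal.mul_mem_left _ _ ((mem_maximalIdeal _).2 ha)))
    (Ideal.pow_mem_of_mem _ ((mem_maximalIdeal _).2 hb) 2 (by norm_num))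

/-- If the square of the maximal ideal is principal and contains a regular element, so is the maximal ideal. -/
theorem isPrincipal_of_sq [IsNoetherianRing A] {w r : A} (hr : r ∈ maximalIdeal A) (hr0 : r ∈ nonZeroDivisors A)
    (hw : maximalIdeal A ^ 2 ≤ Ideal.span {w} ⊔ maximalIdeal A ^ 3) (hwm : w ∈ maximalIdeal A ^ 2) :
    ∃ a, maximalIdeal A = Ideal.span {a} := by
  set m := maximalIdeal A
  have hw2 : m ^ 2 = Ideal.span {w} := by
    refine le_antisymm ?_ (Ideal.span_le.2 (Set.singleton_subset_iff.2 hwm))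
    refine Submodule.le_of_le_smul_of_le_jacobson_bot (IsNoetherian.noetherian _)
      (maximalIdeal_le_jacobson _) ?_
    rw [smul_eq_mul, ← pow_succ']
    exact hw
  have hwz : ∀ z, w * z = 0 → z = 0 := fun z hz => by
    obtain ⟨t, ht⟩ := Ideal.mem_span_singleton'.1 (hw2 ▸ (pow_two m).symm ▸ Ideal.mul_mem_mul hr hr : r * r ∈ Ideal.span {w})
    refine (mul_mem hr0 hr0 : r * r ∈ nonZeroDivisors A).2 z ?_
    first
      | rw [← ht]; linear_combination t * hz
      | rw [mul_comm, ← ht]; linear_combination t * hz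
  by_contra hno
  have key : m * m ≤ m * Ideal.span {w} := by
    rw [Submodule.mul_le]
    intro a ha b hb
    obtain ⟨e, he⟩ := Ideal.mem_span_singleton'.1 (hw2 ▸ (pow_two m).symm ▸ Ideal.mul_mem_mul ha hb : a * b ∈ Ideal.span {w})
    rw [← he]
    refine Ideal.mul_mem_mul ?_ (Ideal.mem_span_singleton_self w)
    by_contra heu
    obtain ⟨f, hf⟩ := (not_not.1 fun h => heu ((mem_maximalIdeal _).2 h) : IsUnit e).exists_left_inv
    refine hno ⟨a, le_antisymm (fun z hz => ?_) (Ideal.span_le.2 (Set.singleton_subset_iff.2 ha))⟩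
    obtain ⟨t, ht⟩ := Ideal.mem_span_singleton'.1 (hw2 ▸ (pow_two m).symm ▸ Ideal.mul_mem_mul hz hb : z * b ∈ Ideal.span {w})
    refine Ideal.mem_span_singleton'.2 ⟨f * t, sub_eq_zero.1 (hwz _ ?_)⟩
    linear_combination (f * a) * ht - (f * z) * he + w * z * hf
  have hwmem : w ∈ m * Ideal.span {w} := key (by rw [← pow_two]; exact hwm)
  obtain ⟨z, hzm, hzw⟩ := Ideal.mem_mul_span_singleton.1 hwmem
  have h1 : (1 : A) - z = 0 := hwz _ (by linear_combination -hzw)
  exact (mem_maximalIdeal (1 : A)).1 (by rw [sub_eq_zero.1 h1]; exact hzm) isUnit_one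

/-- Two independent quadratic relations modulo the cube are impossible. -/
theorem minor_mem {a b c a' b' c' x y : A} [IsNoetherianRing A] (h : maximalIdeal A = Ideal.span {x, y})
    (h2 : (maximalIdeal A).spanFinrank = 2) {r : A} (hr : r ∈ maximalIdeal A) (hr0 : r ∈ nonZeroDivisors A)
    (hq : quad a b c x y ∈ maximalIdeal A ^ 3) (hq' : quad a' b' c' x y ∈ maximalIdeal A ^ 3) :
    a * b' - b * a' ∈ maximalIdeal A ∧ a * c' - c * a' ∈ maximalIdeal A ∧ b * c' - c * b' ∈ maximalIdeal A := by
  set m := maximalIdeal A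
  have hx : x ∈ m := h ▸ Ideal.subset_span (by simp)
  have hy : y ∈ m := h ▸ Ideal.subset_span (by simp)
  have hxx : x * x ∈ m ^ 2 := (pow_two m).symm ▸ Ideal.mul_mem_mul hx hx
  have hxy : x * y ∈ m ^ 2 := (pow_two m).symm ▸ Ideal.mul_mem_mul hx hy
  have hyy : y * y ∈ m ^ 2 := (pow_two m).symm ▸ Ideal.mul_mem_mul hy hy
  have main : ∀ w ∈ m ^ 2, ∀ {K : Ideal A}, Ideal.span {w} ⊔ m ^ 3 = K →
      x * x ∈ K → x * y ∈ K → y * y ∈ K → False := by
    intro w hw K hK e1 e2 e3
    subst hK
    obtain ⟨a, ha⟩ := isPrincipal_of_sq hr hr0 (w := w) (by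
      rw [pow_two, show maximalIdeal A * maximalIdeal A = Ideal.span {x, y} * Ideal.span {x, y} from by rw [← h],
        Ideal.span_mul_span', Ideal.span_le]
      rintro _ ⟨p, hp, q, hq, rfl⟩
      simp only [Set.mem_insert_iff, Set.mem_singleton_iff] at hp hq
      rcases hp with rfl | rfl <;> rcases hq with rfl | rfl
      · exact e1
      · exact e2
      · show _ * _ ∈ _
        rw [mul_comm]; exact e2
      · exact e3) hw
    have := Submodule.spanFinrank_span_le_ncard_of_finite (R := A) (Set.toFinite ({a} : Set A))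
    rw [show Submodule.span A {a} = Ideal.span {a} from rfl, ← ha, Set.ncard_singleton] at this
    exact absurd (h2.symm.trans_le this) (by norm_num)
  have comb : ∀ p q : A, p * quad a b c x y + q * quad a' b' c' x y ∈ m ^ 3 := fun p q =>
    add_mem (Ideal.mul_mem_left _ _ hq) (Ideal.mul_mem_left _ _ hq')
  have part : ∀ {w z e d : A}, IsUnit d → d * z + e * w ∈ m ^ 3 → z ∈ Ideal.span {w} ⊔ m ^ 3 := by
    intro w z e d hd hz
    obtain ⟨f, hf⟩ := hd.exists_left_inv
    rw [show z = f * (d * z + e * w) + (-(f * e)) * w by linear_combination (-z) * hf]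
    exact add_mem (Ideal.mem_sup_right (Ideal.mul_mem_left _ _ hz))
      (Ideal.mem_sup_left (Ideal.mul_mem_left _ _ (Ideal.mem_span_singleton_self w)))
  have self : ∀ w, w ∈ Ideal.span {w} ⊔ m ^ 3 := fun w => Ideal.mem_sup_left (Ideal.mem_span_singleton_self w)
  refine ⟨?_, ?_, ?_⟩
  · by_contra hn
    have hu : IsUnit (a * b' - b * a') := not_not.1 fun hh => hn ((mem_maximalIdeal _).2 hh)
    refine main _ hyy rfl (part hu (e := c * b' - b * c') ?_) (part hu (e := a * c' - c * a') ?_) (self _)
    · convert comb b' (-b) using 1; simp only [quad]; ring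
    · convert comb (-a') a using 1; simp only [quad]; ring
  · by_contra hn
    have hu : IsUnit (a * c' - c * a') := not_not.1 fun hh => hn ((mem_maximalIdeal _).2 hh)
    refine main _ hxy rfl (part hu (e := b * c' - c * b') ?_) (self _) (part hu (e := a * b' - b * a') ?_)
    · convert comb c' (-c) using 1; simp only [quad]; ring
    · convert comb (-a') a using 1; simp only [quad]; ring
  · by_contra hn
    have hu : IsUnit (b * c' - c * b') := not_not.1 fun hh => hn ((mem_maximalIdeal _).2 hh)
    refine main _ hxx rfl (self _) (part hu (e := a * c' - c * a') ?_) (part hu (e := b * a' - a * b') ?_)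
    · convert comb c' (-c) using 1; simp only [quad]; ring
    · convert comb (-b') b using 1; simp only [quad]; ring

/-- Quadratic relations are nondegenerate as soon as one of them is. -/
theorem isUnit_disc_of_relations {a b c a' b' c' x y : A} [IsNoetherianRing A] (h : maximalIdeal A = Ideal.span {x, y})
    (h2 : (maximalIdeal A).spanFinrank = 2) {r : A} (hr : r ∈ maximalIdeal A) (hr0 : r ∈ nonZeroDivisors A)
    (hq : quad a b c x y ∈ maximalIdeal A ^ 3) (hu : IsUnit (4 * a * c - b ^ 2))
    (hq' : quad a' b' c' x y ∈ maximalIdeal A ^ 3) (hu' : IsUnit a' ∨ IsUnit b' ∨ IsUnit c') :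
    IsUnit (4 * a' * c' - b' ^ 2) := by
  obtain ⟨h1, h3, h5⟩ := minor_mem h h2 hr hr0 hq hq'
  simp only [← residue_ne_zero_iff_isUnit] at hu hu' ⊢
  rw [← residue_eq_zero_iff] at h1 h3 h5
  simp only [map_sub, map_mul, map_pow, map_ofNat] at hu hu' h1 h3 h5 ⊢
  intro h0
  generalize residue A a = A₁ at *
  generalize residue A b = B₁ at *
  generalize residue A c = C₁ at *
  generalize residue A a' = A₂ at *
  generalize residue A b' = B₂ at *
  generalize residue A c' = C₂ at *
  apply hu
  rcases hu' with hh | hh | hh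
  · refine (mul_eq_zero.1 (show A₂ ^ 2 * (4 * A₁ * C₁ - B₁ ^ 2) = 0 from ?_)).resolve_left (pow_ne_zero _ hh)
    linear_combination A₁ ^ 2 * h0 + (-4 * A₁ * A₂) * h3 + (B₁ * A₂ + A₁ * B₂) * h1
  · refine (mul_eq_zero.1 (show B₂ ^ 2 * (4 * A₁ * C₁ - B₁ ^ 2) = 0 from ?_)).resolve_left (pow_ne_zero _ hh)
    linear_combination B₁ ^ 2 * h0 + (4 * B₂ * C₁) * h1 + (-4 * B₁ * A₂) * h5
  · refine (mul_eq_zero.1 (show C₂ ^ 2 * (4 * A₁ * C₁ - B₁ ^ 2) = 0 from ?_)).resolve_left (pow_ne_zero _ hh)
    linear_combination C₁ ^ 2 * h0 + (4 * C₁ * C₂) * h3 + (-(B₁ * C₂) - C₁ * B₂) * h5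

theorem quad_transform {R : Type*} [CommRing R] (a b c p q s t x y : R) :
    quad a b c (p * x + q * y) (s * x + t * y) = quad (quad a b c p s)
      (2 * a * p * q + b * (p * t + q * s) + 2 * c * s * t) (quad a b c q t) x y := by
  simp only [quad]; ring

theorem disc_transform {R : Type*} [CommRing R] (a b c p q s t : R) :
    4 * quad a b c p s * quad a b c q t - (2 * a * p * q + b * (p * t + q * s) + 2 * c * s * t) ^ 2 =
      (p * t - q * s) ^ 2 * (4 * a * c - b ^ 2) := by
  simp only [quad]; ring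

theorem isUnit_det {u v x y p q s t : A} [IsNoetherianRing A] (h : maximalIdeal A = Ideal.span {u, v})
    (hxy : maximalIdeal A = Ideal.span {x, y}) (h2 : (maximalIdeal A).spanFinrank = 2)
    (hu : u = p * x + q * y) (hv : v = s * x + t * y) : IsUnit (p * t - q * s) := by
  obtain ⟨-, hy⟩ := (spanFinrank_eq_two_iff hxy).1 h2
  obtain ⟨hx, -⟩ := (spanFinrank_eq_two_iff hxy).1 h2
  obtain ⟨α, β, hαβ⟩ := Ideal.mem_span_pair.1 (h ▸ (hxy ▸ Ideal.subset_span (by simp)) : x ∈ Ideal.span {u, v})
  obtain ⟨γ, δ, hγδ⟩ := Ideal.mem_span_pair.1 (h ▸ (hxy ▸ Ideal.subset_span (by simp)) : y ∈ Ideal.span {u, v})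
  -- the product of the two matrices is the identity modulo the maximal ideal
  have h11 : α * p + β * s - 1 ∈ maximalIdeal A := by
    by_contra hn
    obtain ⟨f, hf⟩ := (not_not.1 fun hh => hn ((mem_maximalIdeal _).2 hh) : IsUnit (α * p + β * s - 1)).exists_left_inv
    refine hx (Ideal.mem_span_singleton'.2 ⟨-(f * (α * q + β * t)), ?_⟩)
    rw [hu, hv] at hαβ
    linear_combination x * hf - f * hαβ
  have h12 : α * q + β * t ∈ maximalIdeal A := by
    by_contra hn
    obtain ⟨f, hf⟩ := (not_not.1 fun hh => hn ((mem_maximalIdeal _).2 hh) : IsUnit (α * q + β * t)).exists_left_inv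
    refine hy (Ideal.mem_span_singleton'.2 ⟨-(f * (α * p + β * s - 1)), ?_⟩)
    rw [hu, hv] at hαβ
    linear_combination y * hf - f * hαβ
  have h21 : γ * p + δ * s ∈ maximalIdeal A := by
    by_contra hn
    obtain ⟨f, hf⟩ := (not_not.1 fun hh => hn ((mem_maximalIdeal _).2 hh) : IsUnit (γ * p + δ * s)).exists_left_inv
    refine hx (Ideal.mem_span_singleton'.2 ⟨-(f * (γ * q + δ * t - 1)), ?_⟩)
    rw [hu, hv] at hγδ
    linear_combination x * hf - f * hγδ
  have h22 : γ * q + δ * t - 1 ∈ maximalIdeal A := by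
    by_contra hn
    obtain ⟨f, hf⟩ := (not_not.1 fun hh => hn ((mem_maximalIdeal _).2 hh) : IsUnit (γ * q + δ * t - 1)).exists_left_inv
    refine hy (Ideal.mem_span_singleton'.2 ⟨-(f * (γ * p + δ * s)), ?_⟩)
    rw [hu, hv] at hγδ
    linear_combination y * hf - f * hγδ
  rw [← residue_eq_zero_iff] at h11 h12 h21 h22
  rw [← residue_ne_zero_iff_isUnit]
  simp only [map_sub, map_add, map_mul, map_one] at h11 h12 h21 h22 ⊢
  generalize residue A α = α', residue A β = β', residue A γ = γ', residue A δ = δ', residue A p = p',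
    residue A q = q', residue A s = s', residue A t = t' at *
  intro h0
  have : (1 : ResidueField A) = 0 := by
    linear_combination (α' * δ' - β' * γ') * h0 - h11 * (γ' * q' + δ' * t') - h22 + h12 * (γ' * p' + δ' * s')
  exact one_ne_zero this

section Flat

variable {B : Type u} [CommRing B] [IsLocalRing B] [Algebra A B] [Module.Flat A B] [IsLocalHom (algebraMap A B)]

/-- Quadratic nodes are insensitive to flat unramified local extensions. -/
theorem isQuadNode_iff_of_flat [IsNoetherianRing A] [IsNoetherianRing B]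
    (hm : (maximalIdeal A).map (algebraMap A B) = maximalIdeal B) :
    IsQuadNode A ↔ IsQuadNode B := by
  haveI : Module.FaithfullyFlat A B := Module.FaithfullyFlat.of_flat_of_isLocalHom
  set φ := algebraMap A B
  have hcm : ∀ I : Ideal A, (I.map φ).comap φ = I := fun I => Ideal.comap_map_eq_self_of_faithfullyFlat I
  have hgens : ∀ {x y : A}, maximalIdeal A = Ideal.span {x, y} → maximalIdeal B = Ideal.span {φ x, φ y} :=
    fun h => by rw [← hm, h, Ideal.map_span, Set.image_pair]
  have hpow : ∀ n, (maximalIdeal A ^ n).map φ = maximalIdeal B ^ n := fun n => by rw [Ideal.map_pow, hm]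
  constructor
  · rintro ⟨h2, ⟨r, hr, hr0⟩, x, y, a, b, c, hxy, hu, hq⟩
    refine ⟨?_, ⟨φ r, hm ▸ Ideal.mem_map_of_mem _ hr, ?_⟩, φ x, φ y, φ a, φ b, φ c, hgens hxy, ?_, ?_⟩
    · rw [spanFinrank_eq_two_iff (hgens hxy)]
      obtain ⟨hx, hy⟩ := (spanFinrank_eq_two_iff hxy).1 h2
      constructor
      · intro hh
        refine hx ((hcm (Ideal.span {y})).le ?_)
        rwa [Ideal.mem_comap, Ideal.map_span, Set.image_singleton]
      · intro hh
        refine hy ((hcm (Ideal.span {x})).le ?_)
        rwa [Ideal.mem_comap, Ideal.map_span, Set.image_singleton]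
    · rw [mem_nonZeroDivisors_iff_right]
      intro z hz
      refine Module.Flat.isSMulRegular_of_nonZeroDivisors (M := B) hr0 ?_
      show r • z = r • 0
      rw [Algebra.smul_def, smul_zero, mul_comm]
      exact hz
    · have := hu.map φ
      simpa [map_ofNat] using this
    · rw [← map_quad, ← hpow 3]
      exact Ideal.mem_map_of_mem _ hq
  · rintro ⟨h2, ⟨r, hr, hr0⟩, u, v, a, b, c, huv, hu, hq⟩
    -- generators
    obtain ⟨x, y, hxy⟩ : ∃ x y : A, maximalIdeal A = Ideal.span {x, y} := by
      classical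
      obtain ⟨S, hS⟩ : (maximalIdeal A).FG := IsNoetherian.noetherian _
      have hSB : maximalIdeal B = Ideal.span (φ '' (S : Set A)) := by
        rw [← hm, ← hS]; exact Ideal.map_span _ _
      by_contra! hno
      -- every pair of elements spans a proper subideal, hence also upstairs
      have key : ∀ x ∈ maximalIdeal A, ∀ y ∈ maximalIdeal A, ∃ z ∈ S, φ z ∉ Ideal.span {φ x, φ y} := by
        intro x hx y hy
        by_contra! hall
        refine hno x y (le_antisymm ?_ (Ideal.span_le.2 (by simp [Set.insert_subset_iff, hx, hy])))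
        rw [← hS, Submodule.span_le]
        intro z hz
        refine (hcm (Ideal.span {x, y})).le ?_
        rw [Ideal.mem_comap, Ideal.map_span, Set.image_pair]
        exact hall z hz
      have hmA : ∀ z ∈ S, z ∈ maximalIdeal A := fun z hz => hS ▸ Submodule.subset_span hz
      -- some generator is outside the square
      have hne : ∀ w : B, maximalIdeal B ≠ Ideal.span {w} := fun w hw => by
        have := Submodule.spanFinrank_span_le_ncard_of_finite (R := B) (Set.toFinite ({w} : Set B))
        rw [show Submodule.span B {w} = Ideal.span {w} from rfl, ← hw, Set.ncard_singleton] at this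
        omega
      have hsq : ∀ K : Ideal B, maximalIdeal B ≤ K ⊔ maximalIdeal B ^ 2 → maximalIdeal B ≤ K := fun K hK =>
        Submodule.le_of_le_smul_of_le_jacobson_bot (IsNoetherian.noetherian _) (maximalIdeal_le_jacobson _)
          (by rwa [smul_eq_mul, ← pow_two])
      -- coordinates in terms of `u, v`
      have coord : ∀ z ∈ S, ∃ p q, φ z = p * u + q * v := fun z hz => by
        have : φ z ∈ Ideal.span {u, v} := huv ▸ hm ▸ Ideal.mem_map_of_mem _ (hmA z hz)
        obtain ⟨p, q, hpq⟩ := Ideal.mem_span_pair.1 this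
        exact ⟨p, q, hpq.symm⟩
      choose! P Q hPQ using coord
      by_cases hdet : ∃ z ∈ S, ∃ z' ∈ S, IsUnit (P z * Q z' - Q z * P z')
      · obtain ⟨z, hz, z', hz', hd⟩ := hdet
        obtain ⟨z'', hz'', hout⟩ := key z (hmA z hz) z' (hmA z' hz')
        obtain ⟨f, hf⟩ := hd.exists_left_inv
        refine hout ?_
        rw [Ideal.mem_span_pair]
        refine ⟨f * (P z'' * Q z' - Q z'' * P z'), f * (P z * Q z'' - Q z * P z''), ?_⟩
        rw [hPQ z hz, hPQ z' hz', hPQ z'' hz'']
        linear_combination (P z'' * u + Q z'' * v) * hf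
      · push Not at hdet
        have hmem : ∀ z ∈ S, ∀ z' ∈ S, P z * Q z' - Q z * P z' ∈ maximalIdeal B := fun z hz z' hz' =>
          (mem_maximalIdeal _).2 (hdet z hz z' hz')
        by_cases hun : ∃ z ∈ S, IsUnit (P z) ∨ IsUnit (Q z)
        · obtain ⟨z, hz, hzu⟩ := hun
          refine hne (φ z) (le_antisymm (hsq _ ?_) (Ideal.span_le.2 (Set.singleton_subset_iff.2
            (hm ▸ Ideal.mem_map_of_mem _ (hmA z hz)))))
          conv_lhs => rw [hSB]
          rw [Ideal.span_le]
          rintro _ ⟨z', hz', rfl⟩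
          have hum : u ∈ maximalIdeal B := huv ▸ Ideal.subset_span (by simp)
          have hvm : v ∈ maximalIdeal B := huv ▸ Ideal.subset_span (by simp)
          rcases hzu with hP | hQ
          · obtain ⟨f, hf⟩ := hP.exists_left_inv
            rw [show φ z' = (f * P z') * φ z + (f * (P z * Q z' - Q z * P z')) * v by
              rw [hPQ z hz, hPQ z' hz']; linear_combination (-(P z' * u) - Q z' * v) * hf]
            exact add_mem (Ideal.mem_sup_left (Ideal.mul_mem_left _ _ (Ideal.mem_span_singleton_self _)))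
              (Ideal.mem_sup_right (pow_two (maximalIdeal B) ▸ Ideal.mul_mem_mul (Ideal.mul_mem_left _ _ (hmem z hz z' hz')) hvm))
          · obtain ⟨f, hf⟩ := hQ.exists_left_inv
            rw [show φ z' = (f * Q z') * φ z + (-f * (P z * Q z' - Q z * P z')) * u by
              rw [hPQ z hz, hPQ z' hz']; linear_combination (-(P z' * u) - Q z' * v) * hf]
            exact add_mem (Ideal.mem_sup_left (Ideal.mul_mem_left _ _ (Ideal.mem_span_singleton_self _)))
              (Ideal.mem_sup_right (pow_two (maximalIdeal B) ▸ Ideal.mul_mem_mul (Ideal.mul_mem_left _ _ (hmem z hz z' hz')) hum))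
        · push Not at hun
          refine hne 0 ((le_antisymm (hsq _ ?_) (by simp)))
          conv_lhs => rw [hSB]
          rw [Ideal.span_le]
          rintro _ ⟨z', hz', rfl⟩
          refine Ideal.mem_sup_right ?_
          rw [hPQ z' hz', pow_two]
          exact add_mem (Ideal.mul_mem_mul ((mem_maximalIdeal _).2 (hun z' hz').1) (huv ▸ Ideal.subset_span (by simp)))
            (Ideal.mul_mem_mul ((mem_maximalIdeal _).2 (hun z' hz').2) (huv ▸ Ideal.subset_span (by simp)))
    have hxyB := hgens hxy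
    have h2A : (maximalIdeal A).spanFinrank = 2 := by
      rw [spanFinrank_eq_two_iff hxy]
      obtain ⟨hx, hy⟩ := (spanFinrank_eq_two_iff hxyB).1 h2
      exact ⟨fun hh => hx (by simpa [Ideal.map_span, Set.image_singleton] using Ideal.mem_map_of_mem φ hh),
        fun hh => hy (by simpa [Ideal.map_span, Set.image_singleton] using Ideal.mem_map_of_mem φ hh)⟩
    -- a regular element
    obtain ⟨rA, hrA, hrA0⟩ : ∃ rA ∈ maximalIdeal A, rA ∈ nonZeroDivisors A := by
      by_contra! hall
      have hsub : (maximalIdeal A : Set A) ⊆ ⋃ P ∈ associatedPrimes A A, (P : Set A) := fun s hs => by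
        rw [biUnion_associatedPrimes_eq_zero_divisors A A]
        have hn := hall s hs
        rw [mem_nonZeroDivisors_iff_left] at hn
        push Not at hn
        obtain ⟨z, hz, hz0⟩ := hn
        exact ⟨z, hz0, by simpa using hz⟩
      obtain ⟨P, hP, hmP⟩ := (Ideal.subset_union_prime_finite (associatedPrimes.finite A A) ⊥ ⊥
        (fun P hP _ _ => hP.isPrime)).1 hsub
      obtain ⟨hPp, z, hzP⟩ := isAssociatedPrime_iff.1 hP
      have hz : ∀ s ∈ maximalIdeal A, s * z = 0 := fun s hs => by
        simpa [hzP, Submodule.mem_colon_singleton] using hmP hs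
      have hzB : φ z = 0 := by
        rw [← hm] at hr
        refine hr0.2 _ ?_
        have hle : (maximalIdeal A).map φ ≤ (⊥ : Ideal B).colon {φ z} := Ideal.map_le_iff_le_comap.2 fun s hs => by
          rw [Ideal.mem_comap, Submodule.mem_colon_singleton, Submodule.mem_bot, smul_eq_mul, ← map_mul, hz s hs,
            map_zero]
        have h7 := hle hr
        rw [Submodule.mem_colon_singleton, Submodule.mem_bot, smul_eq_mul, mul_comm] at h7
        exact h7
      have hz0 : z = 0 := by
        have : z ∈ ((⊥ : Ideal A).map φ).comap φ := by rw [Ideal.map_bot, Ideal.mem_comap, hzB]; exact zero_mem _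
        rw [hcm] at this
        exact this
      exact hPp.ne_top ((Ideal.eq_top_iff_one P).2 (by simp [hzP, hz0, Submodule.mem_colon_singleton]))
    have hq0 : ∃ a₀ b₀ c₀ : B, quad a₀ b₀ c₀ (φ x) (φ y) ∈ maximalIdeal B ^ 3 ∧ IsUnit (4 * a₀ * c₀ - b₀ ^ 2) := by
      obtain ⟨p, q, hpq⟩ := Ideal.mem_span_pair.1 (hxyB ▸ (huv ▸ Ideal.subset_span (by simp)) : u ∈ Ideal.span {φ x, φ y})
      obtain ⟨s, t, hst⟩ := Ideal.mem_span_pair.1 (hxyB ▸ (huv ▸ Ideal.subset_span (by simp)) : v ∈ Ideal.span {φ x, φ y})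
      refine ⟨quad a b c p s, 2 * a * p * q + b * (p * t + q * s) + 2 * c * s * t, quad a b c q t, ?_, ?_⟩
      · rwa [← hpq, ← hst, quad_transform] at hq
      · rw [disc_transform]
        exact ((isUnit_det huv hxyB h2 hpq.symm hst.symm).pow 2).mul hu
    obtain ⟨a₀, b₀, c₀, hq₀, hu₀⟩ := hq0
    set N := maximalIdeal A ^ 3
    have hN : N.map φ = maximalIdeal B ^ 3 := hpow 3
    have descend : ∀ (w e₁ e₂ : A) {d d₁ d₂ : B}, IsUnit d →
        d * φ w + d₁ * φ e₁ + d₂ * φ e₂ ∈ maximalIdeal B ^ 3 →
        ∃ f₁ f₂ : A, w + f₁ * e₁ + f₂ * e₂ ∈ N := by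
      intro w e₁ e₂ d d₁ d₂ hd hh
      have : w ∈ ((Ideal.span {e₁, e₂} ⊔ N).map φ).comap φ := by
        rw [Ideal.mem_comap, Ideal.map_sup, hN, Ideal.map_span, Set.image_pair]
        obtain ⟨f, hf⟩ := hd.exists_left_inv
        rw [show φ w = f * (d * φ w + d₁ * φ e₁ + d₂ * φ e₂) + ((-(f * d₁)) * φ e₁ + (-(f * d₂)) * φ e₂) by
          linear_combination (-(φ w)) * hf]
        exact add_mem (Ideal.mem_sup_right (Ideal.mul_mem_left _ _ hh))
          (Ideal.mem_sup_left (Ideal.mem_span_pair.2 ⟨_, _, rfl⟩))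
      rw [hcm, Submodule.mem_sup] at this
      obtain ⟨s, hs, n, hn, hsn⟩ := this
      obtain ⟨g₁, g₂, rfl⟩ := Ideal.mem_span_pair.1 hs
      exact ⟨-g₁, -g₂, by convert hn using 1; linear_combination -hsn⟩
    obtain ⟨a', b', c', hq', hc'⟩ : ∃ a' b' c' : A, quad a' b' c' x y ∈ N ∧ (IsUnit a' ∨ IsUnit b' ∨ IsUnit c') := by
      rcases exists_unit_coeff hu₀ with hh | hh | hh
      · obtain ⟨f₁, f₂, hf⟩ := descend (x * x) (x * y) (y * y) (d₁ := b₀) (d₂ := c₀) hh (by convert hq₀ using 1; simp only [quad, map_mul]; ring)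
        exact ⟨1, f₁, f₂, by convert hf using 1; simp only [quad]; ring, Or.inl isUnit_one⟩
      · obtain ⟨f₁, f₂, hf⟩ := descend (x * y) (x * x) (y * y) (d₁ := a₀) (d₂ := c₀) hh (by convert hq₀ using 1; simp only [quad, map_mul]; ring)
        exact ⟨f₁, 1, f₂, by convert hf using 1; simp only [quad]; ring, Or.inr (Or.inl isUnit_one)⟩
      · obtain ⟨f₁, f₂, hf⟩ := descend (y * y) (x * x) (x * y) (d₁ := a₀) (d₂ := b₀) hh (by convert hq₀ using 1; simp only [quad, map_mul]; ring)
        exact ⟨f₁, f₂, 1, by convert hf using 1; simp only [quad]; ring, Or.inr (Or.inr isUnit_one)⟩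
    refine ⟨h2A, ⟨rA, hrA, hrA0⟩, x, y, a', b', c', hxy, ?_, hq'⟩
    have := isUnit_disc_of_relations hxyB h2 hr hr0 hq₀ hu₀
      (a' := φ a') (b' := φ b') (c' := φ c')
      (by rw [← map_quad, ← hN]; exact Ideal.mem_map_of_mem _ hq')
      (hc'.imp (fun h => h.map φ) (Or.imp (fun h => h.map φ) (fun h => h.map φ)))
    refine isUnit_of_map_unit φ _ ?_
    simpa [map_ofNat] using this

end Flat

end Groth.Agent.NodeAlg15
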