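import Groth.Agent.NodeAlg15.Quad
import Mathlib.Algebra.DualNumber
import Mathlib.RingTheory.Unramified.Field
import Mathlib.RingTheory.Etale.Field
import Mathlib.RingTheory.TensorProduct.Finite
import Mathlib.RingTheory.Artinian.Ring

/-!
# Quadratic nodes after extension of the base field

If a local ring of `R ⊗[k] K` is a quadratic node with residue field `K`, then the local ring of `R`
below it has separable residue field and the extension is unramified.  The proof extends derivations.
-/

set_option autoImplicit false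
set_option linter.style.haveILetI false

universe u

namespace Groth.Agent.NodeAlg15.BC

open IsLocalRing TensorProduct TrivSqZeroExt

/-- A ring map on dual numbers induced by a ring map. -/
def dualMap {T T' : Type u} [CommRing T] [CommRing T'] (f : T →+* T') : DualNumber T →+* DualNumber T' where
  toFun x := inl (f x.fst) + inr (f x.snd)
  map_one' := by ext <;> simp
  map_mul' x y := by
    ext <;> simp [smul_eq_mul, MulOpposite.smul_eq_mul_unop]
  map_zero' := by ext <;> simp
  map_add' x y := by ext <;> simp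

@[simp] theorem fst_dualMap {T T' : Type u} [CommRing T] [CommRing T'] (f : T →+* T') (x : DualNumber T) :
    (dualMap f x).fst = f x.fst := by simp [dualMap]

@[simp] theorem snd_dualMap {T T' : Type u} [CommRing T] [CommRing T'] (f : T →+* T') (x : DualNumber T) :
    (dualMap f x).snd = f x.snd := by simp [dualMap]

theorem snd_mul' {T : Type u} [CommRing T] (x y : DualNumber T) :
    (x * y).snd = x.fst * y.snd + y.fst * x.snd := by
  simp [smul_eq_mul, MulOpposite.smul_eq_mul_unop, mul_comm]

/-- A ring map to dual numbers from a pair of a ring map and a derivation along it. -/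
def toDual {R T : Type u} [CommRing R] [CommRing T] (f : R →+* T) (d : R → T)
    (hadd : ∀ r s, d (r + s) = d r + d s) (hmul : ∀ r s, d (r * s) = f r * d s + f s * d r) :
    R →+* DualNumber T where
  toFun r := inl (f r) + inr (d r)
  map_one' := by
    have h := hmul 1 1
    simp only [mul_one, map_one, one_mul] at h
    ext <;> simp
    linear_combination -h
  map_mul' r s := by
    ext
    · simp
    · simp only [snd_mul', fst_add, fst_inl, fst_inr, snd_add, snd_inl, snd_inr, add_zero, zero_add]
      exact hmul r s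
  map_zero' := by
    have h := hadd 0 0
    simp only [add_zero] at h
    ext <;> simp
    linear_combination -h
  map_add' r s := by ext <;> simp [hadd]

@[simp] theorem fst_toDual {R T : Type u} [CommRing R] [CommRing T] (f : R →+* T) (d : R → T)
    (hadd : ∀ r s, d (r + s) = d r + d s) (hmul : ∀ r s, d (r * s) = f r * d s + f s * d r) (r : R) :
    (toDual f d hadd hmul r).fst = f r := by simp [toDual]

@[simp] theorem snd_toDual {R T : Type u} [CommRing R] [CommRing T] (f : R →+* T) (d : R → T)
    (hadd : ∀ r s, d (r + s) = d r + d s) (hmul : ∀ r s, d (r * s) = f r * d s + f s * d r) (r : R) :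
    (toDual f d hadd hmul r).snd = d r := by simp [toDual]

variable {k : Type u} [Field k] {R : Type u} [CommRing R] [Algebra k R]
variable {K : Type u} [Field K] [Algebra k K]
variable {B : Type u} [CommRing B] [Algebra (R ⊗[k] K) B] {Q : Ideal (R ⊗[k] K)} [Q.IsPrime]
variable [IsLocalization.AtPrime B Q]

variable (k R K B) in
/-- The map from the first factor. -/
noncomputable def fromR : R →+* B :=
  (algebraMap (R ⊗[k] K) B).comp (Algebra.TensorProduct.includeLeft : R →ₐ[k] R ⊗[k] K).toRingHom

variable (k R K B) in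
/-- The map from the second factor. -/
noncomputable def fromK : K →+* B :=
  (algebraMap (R ⊗[k] K) B).comp (Algebra.TensorProduct.includeRight : K →ₐ[k] R ⊗[k] K).toRingHom

omit [IsLocalization.AtPrime B Q] in
theorem fromR_algebraMap (c : k) : fromR k R K B (algebraMap k R c) = fromK k R K B (algebraMap k K c) := by
  show algebraMap _ B (algebraMap k R c ⊗ₜ[k] 1) = algebraMap _ B (1 ⊗ₜ[k] algebraMap k K c)
  congr 1
  rw [Algebra.algebraMap_eq_smul_one, Algebra.algebraMap_eq_smul_one, smul_tmul]

omit [IsLocalization.AtPrime B Q] in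
theorem map_tmul (r : R) (c : K) :
    algebraMap (R ⊗[k] K) B (r ⊗ₜ[k] c) = fromR k R K B r * fromK k R K B c := by
  show _ = algebraMap _ B (r ⊗ₜ[k] 1) * algebraMap _ B (1 ⊗ₜ[k] c)
  rw [← map_mul, Algebra.TensorProduct.tmul_mul_tmul, mul_one, one_mul]

include Q in
theorem hom_ext {T : Type u} [CommRing T] {f g : B →+* T}
    (h1 : ∀ r, f (fromR k R K B r) = g (fromR k R K B r))
    (h2 : ∀ c, f (fromK k R K B c) = g (fromK k R K B c)) : f = g := by
  refine IsLocalization.ringHom_ext Q.primeCompl (RingHom.ext fun s => ?_)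
  induction s using TensorProduct.induction_on with
  | zero => simp
  | tmul r c => rw [RingHom.comp_apply, RingHom.comp_apply, map_tmul, map_mul, map_mul, h1, h2]
  | add a b ha hb => simp only [map_add, ha, hb]

include Q in
/-- Derivations of `R` extend to the local rings of `R ⊗[k] K`. -/
theorem exists_extend {T : Type u} [CommRing T] (π : B →+* T) (χ : R →+* DualNumber T)
    (hfst : ∀ r, (χ r).fst = π (fromR k R K B r))
    (hk : ∀ c : k, (χ (algebraMap k R c)).snd = 0) :
    ∃ Φ : B →+* DualNumber T, (∀ r, Φ (fromR k R K B r) = χ r) ∧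
      (∀ c, (Φ (fromK k R K B c)).snd = 0) ∧ ∀ b, (Φ b).fst = π b := by
  letI : Algebra k (DualNumber T) :=
    ((inlHom T T).comp (π.comp ((fromR k R K B).comp (algebraMap k R)))).toAlgebra
  let fR : R →ₐ[k] DualNumber T :=
    { χ with
      commutes' := fun c => by
        show χ (algebraMap k R c) = inl (π (fromR k R K B (algebraMap k R c)))
        ext <;> simp [hfst, hk] }
  let fK : K →ₐ[k] DualNumber T :=
    { (inlHom T T).comp (π.comp (fromK k R K B)) with
      commutes' := fun c => by
        show inl (π (fromK k R K B (algebraMap k K c))) = inl (π (fromR k R K B (algebraMap k R c)))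
        rw [fromR_algebraMap] }
  let F : R ⊗[k] K →ₐ[k] DualNumber T := Algebra.TensorProduct.lift fR fK fun _ _ => Commute.all _ _
  have hF : ∀ r c, F (r ⊗ₜ[k] c) = χ r * inl (π (fromK k R K B c)) := fun r c =>
    Algebra.TensorProduct.lift_tmul fR fK _ r c
  have hFfst : ∀ s, (F s).fst = π (algebraMap (R ⊗[k] K) B s) := by
    intro s
    induction s using TensorProduct.induction_on with
    | zero => simp
    | tmul r c => rw [hF, map_tmul, map_mul, fst_mul, fst_inl, hfst]
    | add a b ha hb => rw [map_add, fst_add, ha, hb, map_add, map_add]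
  have hunit : ∀ s : Q.primeCompl, IsUnit (F.toRingHom s) := fun s => by
    rw [isUnit_iff_isUnit_fst]
    show IsUnit (F (s : R ⊗[k] K)).fst
    rw [hFfst]
    exact (IsLocalization.map_units B s).map π
  let Φ : B →+* DualNumber T := IsLocalization.lift hunit
  have hΦ : ∀ s, Φ (algebraMap (R ⊗[k] K) B s) = F s := fun s => IsLocalization.lift_eq hunit s
  refine ⟨Φ, fun r => ?_, fun c => ?_, ?_⟩
  · show Φ (algebraMap _ B (r ⊗ₜ[k] 1)) = _
    rw [hΦ, hF, map_one, map_one, inl_one, mul_one]
  · show (Φ (algebraMap _ B (1 ⊗ₜ[k] c))).snd = _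
    rw [hΦ, hF, map_one, one_mul, snd_inl]
  · intro b
    have h : (fstHom T T T).toRingHom.comp Φ = π := by
      refine hom_ext (Q := Q) (fun r => ?_) (fun c => ?_)
      · show (Φ (algebraMap _ B (r ⊗ₜ[k] 1))).fst = _
        rw [hΦ, hFfst]
        rfl
      · show (Φ (algebraMap _ B (1 ⊗ₜ[k] c))).fst = _
        rw [hΦ, hFfst]
        rfl
    exact RingHom.congr_fun h b

variable [IsLocalRing B]
variable {A : Type u} [CommRing A] [IsLocalRing A] [Algebra R A] {P : Ideal R} [P.IsPrime]
variable [IsLocalization.AtPrime A P]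
variable [Algebra A B] [IsLocalHom (algebraMap A B)]
variable (hc : ∀ r, algebraMap A B (algebraMap R A r) = fromR k R K B r)

section Unramified

variable [Algebra k A] [IsScalarTower k R A] [Algebra.FiniteType k R]

include P in
theorem essFiniteType_residueField : Algebra.EssFiniteType k (ResidueField A) := by
  haveI : Algebra.EssFiniteType R A := Algebra.EssFiniteType.of_isLocalization A P.primeCompl
  haveI : Algebra.EssFiniteType k A := Algebra.EssFiniteType.comp k R A
  haveI : Algebra.EssFiniteType A (ResidueField A) := inferInstance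
  exact Algebra.EssFiniteType.comp k A (ResidueField A)

include hc P Q in
/-- A separable residue field gives an unramified extension. -/
theorem map_maximalIdeal_of_isSeparable [Algebra.IsSeparable k (ResidueField A)] :
    (maximalIdeal A).map (algebraMap A B) = maximalIdeal B := by
  set J := (maximalIdeal A).map (algebraMap A B) with hJ
  have hJle : J ≤ maximalIdeal B := map_maximalIdeal_le _
  haveI := essFiniteType_residueField (k := k) (A := A) (P := P)
  haveI : Algebra.FormallyUnramified k (ResidueField A) := Algebra.FormallyUnramified.of_isSeparable k _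
  haveI : Module.Finite k (ResidueField A) :=
    Algebra.FormallyUnramified.finite_of_free (R := k) (S := ResidueField A)
  haveI : IsArtinianRing (K ⊗[k] ResidueField A) := isArtinian_of_tower K inferInstance
  haveI : _root_.IsReduced (K ⊗[k] ResidueField A) := Algebra.FormallyUnramified.isReduced_of_field K _
  let ι : ResidueField A →+* B ⧸ J :=
    Ideal.Quotient.lift (maximalIdeal A) ((Ideal.Quotient.mk J).comp (algebraMap A B)) fun a ha =>
      Ideal.Quotient.eq_zero_iff_mem.2 (Ideal.mem_map_of_mem _ ha)
  have hι : ∀ a, ι (residue A a) = Ideal.Quotient.mk J (algebraMap A B a) := fun a => rfl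
  letI : Algebra k (B ⧸ J) :=
    ((Ideal.Quotient.mk J).comp ((fromR k R K B).comp (algebraMap k R))).toAlgebra
  let fκ : ResidueField A →ₐ[k] B ⧸ J :=
    { ι with
      commutes' := fun c => by
        show ι (residue A (algebraMap k A c)) = Ideal.Quotient.mk J (fromR k R K B (algebraMap k R c))
        rw [hι, IsScalarTower.algebraMap_apply k R A, hc] }
  let fK : K →ₐ[k] B ⧸ J :=
    { (Ideal.Quotient.mk J).comp (fromK k R K B) with
      commutes' := fun c => by
        show Ideal.Quotient.mk J (fromK k R K B (algebraMap k K c)) =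
          Ideal.Quotient.mk J (fromR k R K B (algebraMap k R c))
        rw [fromR_algebraMap] }
  let ε : K ⊗[k] ResidueField A →ₐ[k] B ⧸ J := Algebra.TensorProduct.lift fK fκ fun _ _ => Commute.all _ _
  have hrange : ∀ s : R ⊗[k] K, ∃ e, ε e = Ideal.Quotient.mk J (algebraMap _ B s) := by
    intro s
    induction s using TensorProduct.induction_on with
    | zero => exact ⟨0, by simp⟩
    | tmul r c =>
      refine ⟨c ⊗ₜ[k] residue A (algebraMap R A r), ?_⟩
      rw [Algebra.TensorProduct.lift_tmul, map_tmul, map_mul]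
      show Ideal.Quotient.mk J (fromK k R K B c) * ι (residue A (algebraMap R A r)) = _
      rw [hι, hc, mul_comm]
    | add a b ha hb =>
      obtain ⟨ea, ha⟩ := ha
      obtain ⟨eb, hb⟩ := hb
      exact ⟨ea + eb, by rw [map_add, ha, hb, map_add, map_add]⟩
  refine le_antisymm hJle fun b hb => ?_
  obtain ⟨⟨s, t⟩, hst⟩ := IsLocalization.surj Q.primeCompl b
  obtain ⟨e, he⟩ := hrange s
  obtain ⟨n, y, hy⟩ := IsArtinian.exists_pow_succ_smul_dvd e (1 : K ⊗[k] ResidueField A)
  have hreg : e * (1 - e * y) = 0 := by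
    refine IsReduced.eq_zero _ ⟨n + 1, ?_⟩
    have h0 : e ^ n * (1 - e * y) = 0 := by
      simp only [smul_eq_mul, mul_one, pow_succ] at hy
      linear_combination -hy
    rw [mul_pow, pow_succ e, pow_succ (1 - e * y)]
    linear_combination (e * (1 - e * y) ^ n) * h0
  obtain ⟨y', hy'⟩ := Ideal.Quotient.mk_surjective (ε y)
  set b' := algebraMap (R ⊗[k] K) B s with hb'
  have hb'm : b' ∈ maximalIdeal B := hst ▸ Ideal.mul_mem_right _ _ hb
  have h1 : b' * (1 - b' * y') ∈ J := by
    rw [← Ideal.Quotient.eq_zero_iff_mem, map_mul, map_sub, map_mul, map_one, hy', ← he, ← map_mul,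
      ← map_one ε, ← map_sub, ← map_mul, hreg, map_zero]
  have hu : IsUnit (1 - b' * y') :=
    isUnit_one_sub_self_of_mem_nonunits _ (Ideal.mul_mem_right _ _ hb'm)
  have h2 : b' ∈ J := by
    have := (Ideal.unit_mul_mem_iff_mem J hu).1 (by rwa [mul_comm] at h1)
    exact this
  rw [← hst] at h2
  refine (Ideal.unit_mul_mem_iff_mem J (IsLocalization.map_units B t)).1 ?_
  rwa [mul_comm] at h2

end Unramified

section Node

variable [IsNoetherianRing B]
variable (hres : ∀ b : B, ∃ c : K, b - fromK k R K B c ∈ maximalIdeal B)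

omit [IsLocalization.AtPrime B Q] [IsNoetherianRing B] in
include hres in
theorem exists_residue : ∃ ρ : B →+* K, (∀ c, ρ (fromK k R K B c) = c) ∧ ∀ b, ρ b = 0 ↔ b ∈ maximalIdeal B := by
  have hb : Function.Bijective ((residue B).comp (fromK k R K B)) := by
    refine ⟨RingHom.injective _, fun z => ?_⟩
    obtain ⟨b, rfl⟩ := residue_surjective z
    obtain ⟨c, hc⟩ := hres b
    exact ⟨c, (Ideal.Quotient.eq.2 hc).symm⟩
  let e := RingEquiv.ofBijective _ hb
  refine ⟨e.symm.toRingHom.comp (residue B), fun c => e.symm_apply_apply c, fun b => ?_⟩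
  show e.symm (residue B b) = 0 ↔ _
  rw [map_eq_zero_iff _ e.symm.injective, residue_eq_zero_iff]

omit [IsLocalization.AtPrime B Q] in
/-- The tangent vector dual to the first of two minimal generators of the maximal ideal. -/
theorem exists_tangent {u v : B} (huv : maximalIdeal B = Ideal.span {u, v})
    (h2 : (maximalIdeal B).spanFinrank = 2) (ρ : B →+* K) (hρK : ∀ c, ρ (fromK k R K B c) = c)
    (hρ : ∀ b, ρ b = 0 ↔ b ∈ maximalIdeal B) :
    ∃ Φ : B →+* DualNumber K, (∀ b, (Φ b).fst = ρ b) ∧ (∀ c, (Φ (fromK k R K B c)).snd = 0) ∧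
      (Φ u).snd = 1 ∧ (Φ v).snd = 0 := by
  set m := maximalIdeal B with hm
  set ψ := fromK k R K B
  have hum : u ∈ m := huv ▸ Ideal.subset_span (by simp)
  have hvm : v ∈ m := huv ▸ Ideal.subset_span (by simp)
  have hsub : ∀ b, b - ψ (ρ b) ∈ m := fun b => (hρ _).1 (by rw [map_sub, hρK, sub_self])
  have hex : ∀ b, ∃ s t : K, b - (ψ (ρ b) + ψ s * u + ψ t * v) ∈ m ^ 2 := by
    intro b
    obtain ⟨p, q, hpq⟩ := Ideal.mem_span_pair.1 (huv ▸ hsub b : b - ψ (ρ b) ∈ Ideal.span {u, v})
    refine ⟨ρ p, ρ q, ?_⟩
    rw [show b - (ψ (ρ b) + ψ (ρ p) * u + ψ (ρ q) * v) = (p - ψ (ρ p)) * u + (q - ψ (ρ q)) * v by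
      linear_combination -hpq, pow_two]
    exact add_mem (Ideal.mul_mem_mul (hsub p) hum) (Ideal.mul_mem_mul (hsub q) hvm)
  have hind : ∀ {s t : K}, ψ s * u + ψ t * v ∈ m ^ 2 → s = 0 := by
    intro s t h
    by_contra hs
    have hu : u ∈ Ideal.span {v} ⊔ m ^ 2 := by
      have e : u = ψ s⁻¹ * (ψ s * u + ψ t * v) + -(ψ s⁻¹ * ψ t) * v := by
        have hi : ψ s⁻¹ * ψ s = 1 := by rw [← map_mul, inv_mul_cancel₀ hs, map_one]
        linear_combination (-u) * hi
      rw [e]
      exact add_mem (Ideal.mem_sup_right (Ideal.mul_mem_left _ _ h))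
        (Ideal.mem_sup_left (Ideal.mul_mem_left _ _ (Ideal.mem_span_singleton_self v)))
    have hmle : m ≤ Ideal.span {v} := by
      refine Submodule.le_of_le_smul_of_le_jacobson_bot (IsNoetherian.noetherian _) (maximalIdeal_le_jacobson _) ?_
      rw [smul_eq_mul, ← pow_two]
      refine huv.le.trans (Ideal.span_le.2 ?_)
      rintro z (rfl | rfl)
      · exact hu
      · exact Ideal.mem_sup_left (Ideal.mem_span_singleton_self _)
    exact ((spanFinrank_eq_two_iff huv).1 h2).1 (hmle hum)
  choose S T hST using hex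
  have huniq : ∀ (b : B) (s t : K), b - (ψ (ρ b) + ψ s * u + ψ t * v) ∈ m ^ 2 → S b = s := by
    intro b s t h
    refine sub_eq_zero.1 (hind (t := T b - t) ?_)
    have := sub_mem h (hST b)
    convert this using 1
    simp only [map_sub]
    ring
  have hadd : ∀ r s, S (r + s) = S r + S s := fun r s => huniq _ _ (T r + T s) (by
    have := add_mem (hST r) (hST s)
    convert this using 1
    simp only [map_add]
    ring)
  have hmul : ∀ r s, S (r * s) = ρ r * S s + ρ s * S r := fun r s => huniq _ _ (ρ r * T s + ρ s * T r) (by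
    have hl : ∀ a, ψ (S a) * u + ψ (T a) * v ∈ m := fun a =>
      add_mem (Ideal.mul_mem_left _ _ hum) (Ideal.mul_mem_left _ _ hvm)
    have := add_mem (add_mem (Ideal.mul_mem_left _ s (hST r))
      (Ideal.mul_mem_left _ (ψ (ρ r) + ψ (S r) * u + ψ (T r) * v) (hST s)))
      (pow_two m ▸ Ideal.mul_mem_mul (hl r) (hl s))
    convert this using 1
    simp only [map_add, map_mul]
    ring)
  refine ⟨toDual ρ S hadd hmul, fst_toDual _ _ _ _, fun c => ?_, ?_, ?_⟩
  · rw [snd_toDual]
    refine huniq _ 0 0 ?_
    rw [hρK, map_zero, zero_mul, zero_mul, add_zero, add_zero, sub_self]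
    exact zero_mem _
  · rw [snd_toDual]
    refine huniq _ 1 0 ?_
    rw [(hρ u).2 hum, map_zero, map_one, zero_add, one_mul, zero_mul, add_zero, sub_self]
    exact zero_mem _
  · rw [snd_toDual]
    refine huniq _ 0 1 ?_
    rw [(hρ v).2 hvm, map_zero, map_one, zero_add, one_mul, zero_mul, zero_add, sub_self]
    exact zero_mem _

include hc Q in
/-- Lifting a tangent vector to a derivation on the fibre. -/
theorem exists_fibre_derivation (ρ : B →+* K) (hρK : ∀ c, ρ (fromK k R K B c) = c)
    (hρ : ∀ b, ρ b = 0 ↔ b ∈ maximalIdeal B) (Φu : B →+* DualNumber K) (hfst : ∀ b, (Φu b).fst = ρ b)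
    (hsnd : ∀ c, (Φu (fromK k R K B c)).snd = 0) :
    ∃ (Φ : B →+* DualNumber (B ⧸ (maximalIdeal A).map (algebraMap A B))),
      (∀ b, (Φ b).fst = Ideal.Quotient.mk _ b) ∧
      ∀ b b', (Φ b).snd = Ideal.Quotient.mk _ b' → ρ b' = (Φu b).snd := by
  set J := (maximalIdeal A).map (algebraMap A B) with hJ
  have hJle : J ≤ maximalIdeal B := map_maximalIdeal_le _
  let π := Ideal.Quotient.mk J
  let ρT : B ⧸ J →+* K := Ideal.Quotient.lift J ρ fun b hb => (hρ b).2 (hJle hb)
  let ι : ResidueField A →+* B ⧸ J :=
    Ideal.Quotient.lift (maximalIdeal A) (π.comp (algebraMap A B)) fun a ha =>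
      Ideal.Quotient.eq_zero_iff_mem.2 (Ideal.mem_map_of_mem _ ha)
  letI : Algebra (ResidueField A) (B ⧸ J) := ι.toAlgebra
  letI : Algebra (ResidueField A) K := (ρT.comp ι).toAlgebra
  let lT : B ⧸ J →ₗ[ResidueField A] K :=
    { toFun := ρT
      map_add' := map_add ρT
      map_smul' := fun a z => by
        show ρT (ι a * z) = ρT (ι a) * ρT z
        rw [map_mul] }
  obtain ⟨σ, hσ⟩ := lT.exists_rightInverse_of_surjective
    (LinearMap.range_eq_top.2 fun z => ⟨π (fromK k R K B z), hρK z⟩)
  have hσ' : ∀ z, ρT (σ z) = z := fun z => LinearMap.congr_fun hσ z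
  have hσm : ∀ (r : R) (z : K), σ (ρ (fromR k R K B r) * z) = π (fromR k R K B r) * σ z := fun r z => by
    have h := σ.map_smul (residue A (algebraMap R A r)) z
    change σ (ρT (ι (residue A (algebraMap R A r))) * z) = ι (residue A (algebraMap R A r)) * σ z at h
    have e : ι (residue A (algebraMap R A r)) = π (fromR k R K B r) := by rw [← hc]; rfl
    rw [e] at h
    exact h
  let d : R → B ⧸ J := fun r => σ (Φu (fromR k R K B r)).snd
  obtain ⟨Φ, hΦR, hΦK, hΦfst⟩ := exists_extend (Q := Q) π (toDual (π.comp (fromR k R K B)) d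
    (fun r s => by simp [d]) (fun r s => by
      simp only [d, map_mul, snd_mul', hfst, map_add, hσm, RingHom.comp_apply]))
    (fun r => fst_toDual _ _ _ _ r) (fun c => by
      rw [snd_toDual]
      show σ _ = 0
      rw [fromR_algebraMap, hsnd, map_zero])
  refine ⟨Φ, hΦfst, fun b b' hb => ?_⟩
  have h : (dualMap ρT).comp Φ = Φu := by
    refine hom_ext (Q := Q) (fun r => ?_) (fun c => ?_) <;> ext
    · simp only [RingHom.comp_apply, fst_dualMap, hΦfst, hfst]; rfl
    · simp only [RingHom.comp_apply, snd_dualMap, hΦR, snd_toDual, d, hσ']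
    · simp only [RingHom.comp_apply, fst_dualMap, hΦfst, hfst]; rfl
    · simp only [RingHom.comp_apply, snd_dualMap, hΦK, hsnd, map_zero]
  rw [← h, RingHom.comp_apply, snd_dualMap, hb]
  rfl

include hc Q hres in
/-- A quadratic node with rational residue field is unramified over the ring below. -/
theorem map_maximalIdeal_of_isQuadNode (hB : IsQuadNode B) :
    (maximalIdeal A).map (algebraMap A B) = maximalIdeal B := by
  set J := (maximalIdeal A).map (algebraMap A B) with hJ
  have hJle : J ≤ maximalIdeal B := map_maximalIdeal_le _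
  obtain ⟨h2, -, u, v, a, b, c, huv, hd, hq⟩ := hB
  obtain ⟨ρ, hρK, hρ⟩ := exists_residue hres
  set M := (maximalIdeal B).map (Ideal.Quotient.mk J) with hM
  have hMmem : ∀ z, z ∈ maximalIdeal B → Ideal.Quotient.mk J z ∈ M := fun z hz => Ideal.mem_map_of_mem _ hz
  have hum : u ∈ maximalIdeal B := huv ▸ Ideal.subset_span (by simp)
  have hvm : v ∈ maximalIdeal B := huv ▸ Ideal.subset_span (by simp)
  -- what one tangent vector gives
  have key : ∀ α β : K, (∃ Φu : B →+* DualNumber K, (∀ b, (Φu b).fst = ρ b) ∧
      (∀ c, (Φu (fromK k R K B c)).snd = 0) ∧ (Φu u).snd = α ∧ (Φu v).snd = β) →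
      Ideal.Quotient.mk J ((2 * a * u + b * v) * fromK k R K B α + (b * u + 2 * c * v) * fromK k R K B β) ∈ M ^ 2 := by
    rintro α β ⟨Φu, hfst, hsnd, hu1, hv1⟩
    obtain ⟨Φ, hΦfst, hΦu⟩ := exists_fibre_derivation (Q := Q) hc ρ hρK hρ Φu hfst hsnd
    have hd2 : ∀ z ∈ maximalIdeal B ^ 2, (Φ z).snd ∈ M := by
      intro z hz
      rw [pow_two] at hz
      induction hz using Submodule.mul_induction_on' with
      | mem_mul_mem x hx y hy =>
        rw [map_mul, snd_mul', hΦfst, hΦfst]
        exact add_mem (Ideal.mul_mem_right _ _ (hMmem x hx)) (Ideal.mul_mem_right _ _ (hMmem y hy))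
      | add x _ y _ ihx ihy => rw [map_add, snd_add]; exact add_mem ihx ihy
    have hd3 : ∀ z ∈ maximalIdeal B ^ 3, (Φ z).snd ∈ M ^ 2 := by
      intro z hz
      rw [pow_succ] at hz
      induction hz using Submodule.mul_induction_on' with
      | mem_mul_mem x hx y hy =>
        rw [map_mul, snd_mul', hΦfst, hΦfst]
        refine add_mem (Ideal.mul_mem_right _ _ ?_) (pow_two M ▸ Ideal.mul_mem_mul (hMmem y hy) (hd2 x hx))
        rw [← Ideal.map_pow]
        exact Ideal.mem_map_of_mem _ hx
      | add x _ y _ ihx ihy => rw [map_add, snd_add]; exact add_mem ihx ihy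
    obtain ⟨Du, hDu⟩ := Ideal.Quotient.mk_surjective (Φ u).snd
    obtain ⟨Dv, hDv⟩ := Ideal.Quotient.mk_surjective (Φ v).snd
    have hDu' : Du - fromK k R K B α ∈ maximalIdeal B := by
      rw [← hρ, map_sub, hρK, hΦu u Du hDu.symm, hu1, sub_self]
    have hDv' : Dv - fromK k R K B β ∈ maximalIdeal B := by
      rw [← hρ, map_sub, hρK, hΦu v Dv hDv.symm, hv1, sub_self]
    have h := hd3 _ hq
    simp only [quad, map_add, map_mul, pow_two, snd_add, snd_mul', fst_mul, hΦfst, ← hDu, ← hDv] at h
    rw [← pow_two M] at h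
    have hL : ∀ {x y : B}, x ∈ maximalIdeal B → y ∈ maximalIdeal B →
        Ideal.Quotient.mk J x * Ideal.Quotient.mk J y ∈ M ^ 2 := fun hx hy =>
      pow_two M ▸ Ideal.mul_mem_mul (hMmem _ hx) (hMmem _ hy)
    have huu := hL hum hum
    have huv' := hL hum hvm
    have hvv := hL hvm hvm
    have h3 := sub_mem h (add_mem (add_mem (Ideal.mul_mem_left _ (Φ a).snd huu)
      (Ideal.mul_mem_left _ (Φ b).snd huv')) (Ideal.mul_mem_left _ (Φ c).snd hvv))
    have h4 := sub_mem h3 (add_mem
      (hL (x := 2 * a * u + b * v) (add_mem (Ideal.mul_mem_left _ _ hum) (Ideal.mul_mem_left _ _ hvm)) hDu')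
      (hL (x := b * u + 2 * c * v) (add_mem (Ideal.mul_mem_left _ _ hum) (Ideal.mul_mem_left _ _ hvm)) hDv'))
    convert h4 using 1
    simp only [map_add, map_mul, map_sub, map_ofNat]
    ring
  have hvu : maximalIdeal B = Ideal.span {v, u} := by rw [huv, Set.pair_comm]
  have hL1 : Ideal.Quotient.mk J (2 * a * u + b * v) ∈ M ^ 2 := by
    obtain ⟨Φ, h1, h2', h3, h4⟩ := exists_tangent huv h2 ρ hρK hρ
    have := key 1 0 ⟨Φ, h1, h2', h3, h4⟩
    rwa [map_one, map_zero, mul_one, mul_zero, add_zero] at this
  have hL2 : Ideal.Quotient.mk J (b * u + 2 * c * v) ∈ M ^ 2 := by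
    obtain ⟨Φ, h1, h2', h3, h4⟩ := exists_tangent hvu h2 ρ hρK hρ
    have := key 0 1 ⟨Φ, h1, h2', h4, h3⟩
    rwa [map_one, map_zero, mul_one, mul_zero, zero_add] at this
  have hu' : Ideal.Quotient.mk J ((4 * a * c - b ^ 2) * u) ∈ M ^ 2 := by
    have := sub_mem (Ideal.mul_mem_left _ (Ideal.Quotient.mk J (2 * c)) hL1)
      (Ideal.mul_mem_left _ (Ideal.Quotient.mk J b) hL2)
    convert this using 1
    rw [← map_mul, ← map_mul, ← map_sub]
    exact congrArg _ (by ring)
  have hv' : Ideal.Quotient.mk J ((4 * a * c - b ^ 2) * v) ∈ M ^ 2 := by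
    have := sub_mem (Ideal.mul_mem_left _ (Ideal.Quotient.mk J (2 * a)) hL2)
      (Ideal.mul_mem_left _ (Ideal.Quotient.mk J b) hL1)
    convert this using 1
    rw [← map_mul, ← map_mul, ← map_sub]
    exact congrArg _ (by ring)
  have hback : ∀ z, Ideal.Quotient.mk J ((4 * a * c - b ^ 2) * z) ∈ M ^ 2 → z ∈ J ⊔ maximalIdeal B ^ 2 := by
    intro z hz
    refine (Ideal.unit_mul_mem_iff_mem _ hd).1 ?_
    rw [hM, ← Ideal.map_pow] at hz
    have : (4 * a * c - b ^ 2) * z ∈ ((maximalIdeal B ^ 2).map (Ideal.Quotient.mk J)).comap (Ideal.Quotient.mk J) := hz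
    rwa [Ideal.comap_map_of_surjective _ Ideal.Quotient.mk_surjective, ← RingHom.ker_eq_comap_bot,
      Ideal.mk_ker, sup_comm] at this
  refine le_antisymm hJle (Submodule.le_of_le_smul_of_le_jacobson_bot (IsNoetherian.noetherian _)
    (maximalIdeal_le_jacobson _) ?_)
  rw [smul_eq_mul, ← pow_two]
  refine huv.le.trans (Ideal.span_le.2 ?_)
  simp [Set.insert_subset_iff, hback u hu', hback v hv']

variable [Algebra k A] [IsScalarTower k R A] [Algebra.FiniteType k R]

include hc P Q hres in
/-- A quadratic node with rational residue field lies over a point with separable residue field. -/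
theorem isSeparable_of_isQuadNode (hB : IsQuadNode B) : Algebra.IsSeparable k (ResidueField A) := by
  have hJ := map_maximalIdeal_of_isQuadNode (Q := Q) hc hres hB
  obtain ⟨ρ, hρK, hρ⟩ := exists_residue hres
  haveI : IsLocalHom ρ := ⟨fun b hb => by
    by_contra h
    exact hb.ne_zero ((hρ b).2 h)⟩
  let emb : ResidueField A →+* K :=
    Ideal.Quotient.lift (maximalIdeal A) (ρ.comp (algebraMap A B)) fun a ha =>
      (hρ _).2 (map_maximalIdeal_le (algebraMap A B) (Ideal.mem_map_of_mem _ ha))
  have hemb : ∀ r, emb (residue A (algebraMap R A r)) = ρ (fromR k R K B r) := fun r => by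
    show ρ (algebraMap A B (algebraMap R A r)) = _
    rw [hc]
  haveI := essFiniteType_residueField (k := k) (A := A) (P := P)
  haveI : Algebra.FormallyUnramified k (ResidueField A) := by
    refine ⟨subsingleton_of_forall_eq 0 fun w => ?_⟩
    have hD : ∀ x : ResidueField A, KaehlerDifferential.D k (ResidueField A) x = 0 := by
      intro x
      refine (Module.forall_dual_apply_eq_zero_iff (ResidueField A) _).1 fun f => ?_
      let δ : ResidueField A → K := fun z => emb (f (KaehlerDifferential.D k (ResidueField A) z))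
      have hδm : ∀ y z, δ (y * z) = emb y * δ z + emb z * δ y := fun y z => by
        simp only [δ, Derivation.leibniz, map_add, map_smul, smul_eq_mul, map_mul]
      have hδa : ∀ y z, δ (y + z) = δ y + δ z := fun y z => by simp only [δ, map_add]
      obtain ⟨Φ, hΦR, hΦK, hΦfst⟩ := exists_extend (Q := Q) ρ (toDual (ρ.comp (fromR k R K B))
        (fun r => δ (residue A (algebraMap R A r))) (fun r s => by simp only [map_add, hδa])
        (fun r s => by simp only [map_mul, hδm, hemb, RingHom.comp_apply]))
        (fun r => fst_toDual _ _ _ _ r) (fun t => by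
          rw [snd_toDual, ← IsScalarTower.algebraMap_apply k R A]
          show emb (f (KaehlerDifferential.D k (ResidueField A) (algebraMap k (ResidueField A) t))) = 0
          rw [Derivation.map_algebraMap, map_zero, map_zero])
      have hzero : ∀ z, (Φ z).snd = 0 := by
        have hm : ∀ z ∈ maximalIdeal B, (Φ z).snd = 0 := by
          intro z hz
          rw [← hJ] at hz
          refine Submodule.span_induction (p := fun z _ => (Φ z).snd = 0) ?_ (by simp)
            (fun _ _ _ _ h h' => by rw [map_add, snd_add, h, h', add_zero]) ?_ hz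
          · rintro _ ⟨α, hα, rfl⟩
            obtain ⟨⟨r, s⟩, hrs⟩ := IsLocalization.surj P.primeCompl α
            have h0 : (Φ (algebraMap A B (algebraMap R A r))).snd = 0 := by
              rw [hc, hΦR, snd_toDual]
              have : residue A (algebraMap R A r) = 0 := by
                rw [residue_eq_zero_iff, ← hrs]; exact Ideal.mul_mem_right _ _ hα
              rw [this]
              show emb (f (KaehlerDifferential.D k (ResidueField A) 0)) = 0
              simp
            have hρα : ρ (algebraMap A B α) = 0 :=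
              (hρ _).2 (map_maximalIdeal_le _ (Ideal.mem_map_of_mem _ hα))
            rw [← hrs, map_mul, map_mul, snd_mul', hΦfst, hΦfst, hρα, zero_mul, zero_add] at h0
            refine (mul_eq_zero.1 h0).resolve_left ?_
            exact (((IsLocalization.map_units A s).map (algebraMap A B)).map ρ).ne_zero
          · intro t z hz h
            rw [smul_eq_mul, map_mul, snd_mul', h, mul_zero, zero_add, hΦfst]
            have : ρ z = 0 := (hρ _).2 (map_maximalIdeal_le _ hz)
            rw [this, zero_mul]
        intro z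
        have h1 := hm (z - fromK k R K B (ρ z)) ((hρ _).1 (by rw [map_sub, hρK, sub_self]))
        rwa [map_sub, snd_sub, hΦK, sub_zero] at h1
      have hR : ∀ r, δ (residue A (algebraMap R A r)) = 0 := fun r => by
        have := hzero (fromR k R K B r)
        rwa [hΦR, snd_toDual] at this
      obtain ⟨α, rfl⟩ := residue_surjective x
      obtain ⟨⟨r, s⟩, hrs⟩ := IsLocalization.surj P.primeCompl α
      have h0 : δ (residue A α * residue A (algebraMap R A s)) = 0 := by rw [← map_mul, hrs]; exact hR r
      rw [hδm, hR, mul_zero, zero_add] at h0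
      refine (map_eq_zero emb).1 ((mul_eq_zero.1 h0).resolve_left ?_)
      exact (((IsLocalization.map_units A s).map (residue A)).map emb).ne_zero
    have hw : w ∈ Submodule.span (ResidueField A) (Set.range (KaehlerDifferential.D k (ResidueField A))) := by
      rw [KaehlerDifferential.span_range_derivation]; trivial
    have h0 : Set.range (KaehlerDifferential.D k (ResidueField A)) ⊆ {0} := by
      rintro _ ⟨y, rfl⟩; exact hD y
    simpa using Submodule.span_mono h0 hw
  exact Algebra.FormallyUnramified.isSeparable k (ResidueField A)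

end Node

end Groth.Agent.NodeAlg15.BC
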