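import Groth.Agent.NodeAlg15.Geom

/-!
# Branches of a node

A proper reduced quotient of positive dimension of the local ring of a node is regular.
-/

set_option autoImplicit false
set_option linter.style.haveILetI false

universe u

namespace Groth.Agent.NodeAlg15.Branch

open IsLocalRing

/-- Annihilators commute with flat extensions. -/
theorem mem_map_ann {A C : Type u} [CommRing A] [CommRing C] [Algebra A C] [Module.Flat A C] {n : ℕ}
    (x : Fin n → A) {a : C} (h : ∀ i, algebraMap A C (x i) * a = 0) :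
    a ∈ Ideal.span (algebraMap A C '' {c | ∀ i, x i * c = 0}) := by
  classical
  let xv : A →ₗ[A] C := LinearMap.toSpanSingleton A C a
  let f : (Fin n → A) →ₗ[A] A := Fintype.linearCombination A x
  have hxf : xv ∘ₗ f = 0 := by
    ext i
    simp [xv, f, Fintype.linearCombination_apply_single, Algebra.smul_def, h]
  obtain ⟨m, q, y, hxy, hqf⟩ := Module.Flat.exists_factorization_of_comp_eq_zero_of_free hxf
  have ha : a = y (q 1) := by
    rw [← LinearMap.comp_apply, ← hxy]
    simp [xv]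
  rw [ha, ← (q 1).univ_sum_single, map_sum]
  refine Ideal.sum_mem _ fun l _ => ?_
  rw [← Finsupp.smul_single_one, map_smul, Algebra.smul_def]
  refine Ideal.mul_mem_right _ _ (Ideal.subset_span ⟨_, fun i => ?_, rfl⟩)
  have h2 := DFunLike.congr_fun (LinearMap.congr_fun hqf (Pi.single i 1)) l
  simp only [LinearMap.comp_apply, LinearMap.zero_apply, f, Fintype.linearCombination_apply_single, one_smul,
    Finsupp.zero_apply] at h2
  rw [show x i = x i • (1 : A) by rw [smul_eq_mul, mul_one], map_smul, Finsupp.smul_apply, smul_eq_mul] at h2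
  exact h2

variable {K : Type u} [Field K]

local notation "S" => MvPowerSeries (Fin 2) K
local notation "V" => PSLib.vars 2 K

/-- The factors of a reducible nondegenerate quadratic form are part of a coordinate system. -/
theorem exists_coordinate {a b c : K} (hd : 4 * a * c - b ^ 2 ≠ 0) {l m : S} (h : quadPS a b c = l * m)
    (hl : ¬IsUnit l) (hm : ¬IsUnit m) : Prime l ∧ ∃ X : S, V = Ideal.span {l, X} := by
  obtain ⟨hdom, hufd⟩ := ufd_ps (K := K)
  have hV : ∀ {w : S}, ¬IsUnit w → w ∈ V := fun hw => by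
    rw [← maximalIdeal_eq_vars]; exact (mem_maximalIdeal _).2 hw
  have hq3 : quadPS a b c ∉ V ^ 3 := not_mem_of_sub_mem hd (by rw [sub_self]; exact zero_mem _)
  refine ⟨Irreducible.prime ⟨hl, fun s t hst => ?_⟩, ?_⟩
  · by_contra! hu
    refine hq3 ?_
    rw [h, hst, pow_three']
    exact Ideal.mul_mem_mul (Ideal.mul_mem_mul (hV hu.1) (hV hu.2)) (hV hm)
  · obtain ⟨α, β, hαβ⟩ := Ideal.mem_span_pair.1 (vars_eq_span (K := K) ▸ hV hl : l ∈ Ideal.span {MvPowerSeries.X 0, MvPowerSeries.X 1})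
    have hXV : ∀ i : Fin 2, (MvPowerSeries.X i : S) ∈ V := fun i => Ideal.subset_span ⟨i, rfl⟩
    by_cases hα : IsUnit α
    · obtain ⟨e, he⟩ := hα.exists_left_inv
      refine ⟨MvPowerSeries.X 1, le_antisymm ?_ (Ideal.span_le.2 (by simp [Set.insert_subset_iff, hV hl, hXV]))⟩
      rw [vars_eq_span, Ideal.span_le, Set.insert_subset_iff, Set.singleton_subset_iff]
      refine ⟨Ideal.mem_span_pair.2 ⟨e, -(e * β), ?_⟩, Ideal.subset_span (by simp)⟩
      rw [← hαβ]; linear_combination MvPowerSeries.X 0 * he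
    · by_cases hβ : IsUnit β
      · obtain ⟨e, he⟩ := hβ.exists_left_inv
        refine ⟨MvPowerSeries.X 0, le_antisymm ?_ (Ideal.span_le.2 (by simp [Set.insert_subset_iff, hV hl, hXV]))⟩
        rw [vars_eq_span, Ideal.span_le, Set.insert_subset_iff, Set.singleton_subset_iff]
        refine ⟨Ideal.subset_span (by simp), Ideal.mem_span_pair.2 ⟨e, -(e * α), ?_⟩⟩
        rw [← hαβ]; linear_combination MvPowerSeries.X 1 * he
      · refine absurd ?_ hq3
        rw [h, ← hαβ, pow_three']
        exact Ideal.mul_mem_mul (add_mem (Ideal.mul_mem_mul (hV hα) (hXV 0)) (Ideal.mul_mem_mul (hV hβ) (hXV 1))) (hV hm)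

/-- Two annihilating families in the quotient by a nondegenerate quadratic form lie on the two branches. -/
theorem exists_branch {a b c : K} (hd : 4 * a * c - b ^ 2 ≠ 0) {C : Type u} [CommRing C] (π : S →+* C)
    (hπ : RingHom.ker π = Ideal.span {quadPS a b c}) {F G : Set S} (hFG : ∀ f ∈ F, ∀ g ∈ G, π (f * g) = 0)
    (hF : ∃ f ∈ F, π f ≠ 0) (hG : ∃ g ∈ G, π g ≠ 0) :
    ∃ l X : S, V = Ideal.span {l, X} ∧ ∀ g ∈ G, π (l * g) = 0 := by
  obtain ⟨hdom, hufd⟩ := ufd_ps (K := K)
  have hzero : ∀ w, π w = 0 ↔ quadPS a b c ∣ w := fun w => by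
    rw [← RingHom.mem_ker, hπ, Ideal.mem_span_singleton]
  obtain ⟨f₀, hf₀, hf₀'⟩ := hF
  obtain ⟨g₀, hg₀, hg₀'⟩ := hG
  rw [Ne, hzero] at hf₀' hg₀'
  obtain ⟨l, m, hl, hm, hlm⟩ : ∃ l m : S, ¬IsUnit l ∧ ¬IsUnit m ∧ quadPS a b c = l * m := by
    by_contra! hno
    have hu : ¬IsUnit (quadPS a b c) := fun hu => hf₀' (hu.dvd)
    have hirr : Irreducible (quadPS a b c) := ⟨hu, fun s t hst => by
      by_contra! hst'
      exact hno s t hst'.1 hst'.2 hst⟩
    exact (hirr.prime.dvd_or_dvd ((hzero _).1 (hFG f₀ hf₀ g₀ hg₀))).elim hf₀' hg₀'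
  obtain ⟨hpl, X₁, hX₁⟩ := exists_coordinate hd hlm hl hm
  obtain ⟨hpm, X₂, hX₂⟩ := exists_coordinate hd (hlm.trans (mul_comm l m)) hm hl
  have hboth : ∀ w, l ∣ w → m ∣ w → quadPS a b c ∣ w := by
    rintro w ⟨t, rfl⟩ hmw
    rw [hlm]
    refine mul_dvd_mul_left l ((hpm.dvd_or_dvd hmw).resolve_left fun hml => ?_)
    obtain ⟨e, he⟩ := hml
    exact hpm.not_unit (squarefree_quadPS hd m ⟨e, by rw [hlm, he]; ring⟩)
  have hdvd : ∀ f ∈ F, ∀ g ∈ G, l * m ∣ f * g := fun f hf g hg => hlm ▸ (hzero _).1 (hFG f hf g hg)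
  -- all of `G` is divisible by one of the factors
  by_cases h : ∀ g ∈ G, m ∣ g
  · exact ⟨l, X₁, hX₁, fun g hg => (hzero _).2 (hlm ▸ mul_dvd_mul_left l (h g hg))⟩
  · push Not at h
    obtain ⟨g₁, hg₁, hg₁'⟩ := h
    have hFm : ∀ f ∈ F, m ∣ f := fun f hf =>
      (hpm.dvd_or_dvd ((dvd_mul_left m l).trans (hdvd f hf g₁ hg₁))).resolve_right hg₁'
    have hfl : ¬l ∣ f₀ := fun h => hf₀' (hboth f₀ h (hFm f₀ hf₀))
    refine ⟨m, X₂, hX₂, fun g hg => (hzero _).2 ?_⟩
    rw [hlm, mul_comm l m]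
    exact mul_dvd_mul_left m ((hpl.dvd_or_dvd ((dvd_mul_right l m).trans (hdvd f₀ hf₀ g hg))).resolve_left hfl)

/-- A proper reduced quotient of positive dimension of a node is regular. -/
theorem isRegularLocalRing_quotient {k : Type u} [Field k] {A : Type u} [CommRing A] [IsLocalRing A]
    [IsNoetherianRing A] [Algebra k A] [Algebra.IsSeparable k (ResidueField A)] (h : IsQuadNode A)
    (hmin : ∀ P : Ideal A, P.IsPrime → P ≠ maximalIdeal A → P ∈ minimalPrimes A)
    {I : Ideal A} (hI : I.IsRadical) (hI0 : I ≠ ⊥) {P : Ideal A} [P.IsPrime] (hIP : I ≤ P)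
    (hP : P ≠ maximalIdeal A) : IsRegularLocalRing (A ⧸ I) := by
  classical
  obtain ⟨a, b, c, hd, e, -⟩ := Geom.exists_completion_equiv_of_isQuadNode (k := k) h
  obtain ⟨hred, -⟩ := of_completion_equiv hd e
  haveI := hred
  let C := AdicCompletion (maximalIdeal A) A
  haveI : IsNoetherianRing C := LC.Canon.isNoetherianRing_completion (R := A)
  haveI : Module.Flat A C := AdicCompletion.flat_of_isNoetherian _
  haveI := LC.Canon.faithfullyFlat_completion (R := A)
  have hinj : Function.Injective (algebraMap A C) := FaithfulSMul.algebraMap_injective A C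
  let π : MvPowerSeries (Fin 2) (ResidueField A) →+* C :=
    e.symm.toRingHom.comp (Ideal.Quotient.mk (Ideal.span {quadPS a b c}))
  have hπker : RingHom.ker π = Ideal.span {quadPS a b c} := by
    rw [RingHom.ker_comp_of_injective _ e.symm.injective, Ideal.mk_ker]
  have hπs : Function.Surjective π := e.symm.surjective.comp Ideal.Quotient.mk_surjective
  -- the annihilator
  let J : Ideal A := Submodule.colon ⊥ (I : Set A)
  have hJ : ∀ j, j ∈ J ↔ ∀ i ∈ I, j * i = 0 := fun j => by
    simp [J, Submodule.mem_annihilator, smul_eq_mul]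
  have hJP : ∀ P' : Ideal A, P'.IsPrime → P' ≠ maximalIdeal A → I ≤ P' → ∃ j ∈ J, j ∉ P' := by
    intro P' hP' hne hle
    haveI := hP'
    have hmP := hmin P' hP' hne
    have key : ∀ i ∈ I, ∃ s : A, s ∉ P' ∧ s * i = 0 := by
      intro i hi
      haveI : _root_.IsReduced (Localization.AtPrime P') :=
        isReduced_localizationPreserves P'.primeCompl _ inferInstance
      haveI : Ring.KrullDimLE 0 (Localization.AtPrime P') :=
        .of_isLocalization _ hmP _
      have hf : IsField (Localization.AtPrime P') :=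
        Ring.KrullDimLE.isField_of_isReduced (R := Localization.AtPrime P')
      have hz : algebraMap A (Localization.AtPrime P') i = 0 := by
        have : algebraMap A (Localization.AtPrime P') i ∈ maximalIdeal (Localization.AtPrime P') :=
          (IsLocalization.AtPrime.to_map_mem_maximal_iff _ P' i).2 (hle hi)
        rwa [isField_iff_maximalIdeal_eq.1 hf, Ideal.mem_bot] at this
      obtain ⟨⟨s, hs⟩, hsi⟩ := (IsLocalization.map_eq_zero_iff P'.primeCompl _ i).1 hz
      exact ⟨s, hs, hsi⟩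
    obtain ⟨T, hT⟩ : I.FG := IsNoetherian.noetherian _
    choose! s hs hsi using key
    refine ⟨∏ t ∈ T, s t, (hJ _).2 fun i hi => ?_, fun hmem => ?_⟩
    · rw [← hT] at hi
      induction hi using Submodule.span_induction with
      | mem t ht =>
        rw [← Finset.prod_erase_mul _ _ ht, mul_assoc,
          hsi t (hT ▸ Submodule.subset_span ht), mul_zero]
      | zero => rw [mul_zero]
      | add x y _ _ hx hy => rw [mul_add, hx, hy, add_zero]
      | smul r x _ hx => rw [smul_eq_mul, mul_left_comm, hx, mul_zero]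
    · obtain ⟨t, ht, htP⟩ := hP'.prod_mem_iff.1 hmem
      exact hs t (hT ▸ Submodule.subset_span ht) htP
  obtain ⟨j₀, hj₀, hj₀P⟩ := hJP P ‹_› hP hIP
  obtain ⟨i₀, hi₀, hi₀0⟩ := Submodule.exists_mem_ne_zero_of_ne_bot hI0
  -- on the branch
  let F : Set (MvPowerSeries (Fin 2) (ResidueField A)) := π ⁻¹' (algebraMap A C '' (I : Set A))
  let G : Set (MvPowerSeries (Fin 2) (ResidueField A)) := π ⁻¹' (algebraMap A C '' (J : Set A))
  obtain ⟨l, X, hlX, hl⟩ := exists_branch hd π hπker (F := F) (G := G) (by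
      rintro f ⟨i, hi, hf⟩ g ⟨j, hj, hg⟩
      rw [map_mul, ← hf, ← hg, ← map_mul, mul_comm, (hJ j).1 hj i hi, map_zero])
    (by
      obtain ⟨f, hf⟩ := hπs (algebraMap A C i₀)
      exact ⟨f, ⟨i₀, hi₀, hf.symm⟩, fun h => hi₀0 (hinj (by rw [← hf, h, map_zero]))⟩)
    (by
      obtain ⟨g, hg⟩ := hπs (algebraMap A C j₀)
      exact ⟨g, ⟨j₀, hj₀, hg.symm⟩, fun h => hj₀P (by
        rw [hinj (show algebraMap A C j₀ = algebraMap A C 0 by rw [← hg, h, map_zero])]; exact zero_mem _)⟩)
  obtain ⟨n, x, hx⟩ : ∃ (n : ℕ) (x : Fin n → A), Ideal.span (Set.range x) = J :=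
    Submodule.fg_iff_exists_fin_generating_family.1 (IsNoetherian.noetherian J)
  have hIann : ∀ z, (∀ i, x i * z = 0) → z ∈ I := fun z hz => by
    have hann : ∀ j ∈ J, j * z = 0 := fun j hj => by
      rw [← hx] at hj
      induction hj using Submodule.span_induction with
      | mem t ht => obtain ⟨i, rfl⟩ := ht; exact hz i
      | zero => rw [zero_mul]
      | add p q _ _ hp hq => rw [add_mul, hp, hq, add_zero]
      | smul r p _ hp => rw [smul_eq_mul, mul_assoc, hp, mul_zero]
    rw [← hI.radical, Ideal.radical_eq_sInf, Ideal.mem_sInf]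
    rintro P' ⟨hle, hP'⟩
    by_cases hne : P' = maximalIdeal A
    · rw [hne, mem_maximalIdeal]
      intro hu
      exact hj₀P (hu.mul_left_eq_zero.1 (hann j₀ hj₀) ▸ zero_mem _)
    · obtain ⟨j, hj, hjP⟩ := hJP P' hP' hne hle
      have hjz : j * z = 0 := hann j hj
      exact (hP'.mem_or_mem (hjz ▸ zero_mem P')).resolve_left hjP
  have hlI : π l ∈ I.map (algebraMap A C) := by
    refine Ideal.span_mono (Set.image_mono fun z hz => hIann z hz) (mem_map_ann x fun i => ?_)
    obtain ⟨g, hg⟩ := hπs (algebraMap A C (x i))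
    rw [← hg, mul_comm, ← map_mul]
    exact hl g ⟨x i, hx ▸ Ideal.subset_span ⟨i, rfl⟩, hg.symm⟩
  have hmC : maximalIdeal C = Ideal.span {π l, π X} := by
    rw [← map_maximalIdeal_of_surjective π hπs, maximalIdeal_eq_vars, hlX, Ideal.map_span, Set.image_pair]
  obtain ⟨z, hz⟩ := exists_approx (π X) 2
  have hzm : z ∈ maximalIdeal A := by
    refine mem_max_of_algebraMap_mem ?_
    have := sub_mem (hmC ▸ Ideal.subset_span (by simp) : π X ∈ maximalIdeal C) (Ideal.pow_le_self two_ne_zero hz)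
    rwa [sub_sub_cancel] at this
  have hle : maximalIdeal A ≤ I ⊔ Ideal.span {z} := by
    refine Submodule.le_of_le_smul_of_le_jacobson_bot (IsNoetherian.noetherian _) (maximalIdeal_le_jacobson _) ?_
    rw [smul_eq_mul, ← pow_two,
      ← Ideal.comap_map_eq_self_of_faithfullyFlat (B := C) (I ⊔ Ideal.span {z} ⊔ maximalIdeal A ^ 2),
      ← Ideal.map_le_iff_le_comap, ← AdicCompletion.maximalIdeal_eq_map, hmC, Ideal.span_le,
      Set.insert_subset_iff, Set.singleton_subset_iff, Ideal.map_sup, Ideal.map_sup, Ideal.map_pow,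
      ← AdicCompletion.maximalIdeal_eq_map, Ideal.map_span, Set.image_singleton]
    refine ⟨Ideal.mem_sup_left (Ideal.mem_sup_left hlI), ?_⟩
    show π X ∈ _
    rw [← sub_add_cancel (π X) (algebraMap A C z)]
    exact add_mem (Ideal.mem_sup_right hz) (Ideal.mem_sup_left (Ideal.mem_sup_right (Ideal.mem_span_singleton_self _)))
  have hInT : I ≠ ⊤ := fun h => (Ideal.IsPrime.ne_top ‹_›) (top_le_iff.1 (h ▸ hIP))
  haveI : Nontrivial (A ⧸ I) := Ideal.Quotient.nontrivial_iff.2 hInT
  haveI : IsLocalRing (A ⧸ I) := IsLocalRing.of_surjective' _ Ideal.Quotient.mk_surjective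
  refine IsRegularLocalRing.of_spanFinrank_maximalIdeal_le _ ?_
  have hm : maximalIdeal (A ⧸ I) = Ideal.span {Ideal.Quotient.mk I z} := by
    refine le_antisymm ?_ ?_
    · rw [← map_maximalIdeal_of_surjective _ Ideal.Quotient.mk_surjective]
      refine (Ideal.map_mono hle).trans ?_
      rw [Ideal.map_sup, Ideal.map_quotient_self, bot_sup_eq, Ideal.map_span, Set.image_singleton]
    · rw [Ideal.span_le, Set.singleton_subset_iff, ← map_maximalIdeal_of_surjective _ Ideal.Quotient.mk_surjective]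
      exact Ideal.mem_map_of_mem _ hzm
  have h1 : (maximalIdeal (A ⧸ I)).spanFinrank ≤ 1 := by
    rw [hm]
    exact (Submodule.spanFinrank_span_le_ncard_of_finite (Set.toFinite _)).trans (by simp)
  refine le_trans (Nat.cast_le.2 h1) ?_
  have hPm : (P.map (Ideal.Quotient.mk I)).IsPrime :=
    Ideal.map_isPrime_of_surjective Ideal.Quotient.mk_surjective (by rwa [Ideal.mk_ker])
  let p : PrimeSpectrum (A ⧸ I) := ⟨_, hPm⟩
  let q : PrimeSpectrum (A ⧸ I) := ⟨maximalIdeal _, inferInstance⟩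
  have hpq : p < q := lt_of_le_of_ne (le_maximalIdeal hPm.ne_top) fun he => hP (by
    have h2 : P.map (Ideal.Quotient.mk I) = maximalIdeal (A ⧸ I) := congrArg PrimeSpectrum.asIdeal he
    have h3 := congrArg (Ideal.comap (Ideal.Quotient.mk I)) h2
    rw [Ideal.comap_map_of_surjective _ Ideal.Quotient.mk_surjective, ← RingHom.ker_eq_comap_bot, Ideal.mk_ker,
      sup_eq_left.2 hIP] at h3
    haveI : IsLocalHom (Ideal.Quotient.mk I) := IsLocalHom.of_surjective _ Ideal.Quotient.mk_surjective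
    rw [h3, IsLocalRing.maximalIdeal_comap])
  exact_mod_cast Order.one_le_krullDim_iff.2 ⟨p, q, hpq⟩

end Groth.Agent.NodeAlg15.Branch
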