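import Groth.Agent.NodeAlg15.PS
import Groth.Agent.Adic7.Lift
import Groth.Agent.LC.CanonComplete
import Mathlib.RingTheory.Etale.Field
import Mathlib.RingTheory.AdicCompletion.LocalRing
import Mathlib.RingTheory.Flat.TorsionFree

/-!
# The completion criterion for nodes
-/

set_option autoImplicit false
set_option linter.style.haveILetI false

universe u

namespace Groth.Agent.NodeAlg15

open IsLocalRing

theorem exists_section_of_separable {k : Type u} [Field k] {C : Type u} [CommRing C] [IsLocalRing C]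
    [Algebra k C] [IsAdicComplete (maximalIdeal C) C] {L : Type u} [Field L] [Algebra k L]
    [Algebra.IsSeparable k L] (g : L →ₐ[k] ResidueField C) :
    ∃ ι : L →ₐ[k] C, ∀ x, residue C (ι x) = g x := by
  haveI : Algebra.FormallyEtale k L := Algebra.FormallyEtale.of_isSeparable k L
  set m := maximalIdeal C with hm
  let p : ∀ n : ℕ, (C ⧸ m ^ (n + 1)) →ₐ[k] ResidueField C := fun n =>
    Ideal.Quotient.factorₐ k (Ideal.pow_le_self n.succ_ne_zero)
  have hp : ∀ n, Function.Surjective (p n) := fun n =>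
    Ideal.Quotient.factor_surjective (Ideal.pow_le_self n.succ_ne_zero)
  have hnil : ∀ n, IsNilpotent (RingHom.ker (p n : (C ⧸ m ^ (n + 1)) →+* ResidueField C)) := fun n => by
    refine ⟨n + 1, ?_⟩
    rw [show RingHom.ker (p n : (C ⧸ m ^ (n + 1)) →+* ResidueField C) = m.map (Ideal.Quotient.mk (m ^ (n + 1)))
      from Ideal.Quotient.factor_ker (Ideal.pow_le_self n.succ_ne_zero), ← Ideal.map_pow, Ideal.map_quotient_self, Submodule.zero_eq_bot]
  let l : ∀ n : ℕ, L →ₐ[k] C ⧸ m ^ (n + 1) := fun n =>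
    Algebra.FormallySmooth.liftOfSurjective g (p n) (hp n) (hnil n)
  have hl : ∀ n x, p n (l n x) = g x := fun n x =>
    Algebra.FormallySmooth.liftOfSurjective_apply g (p n) (hp n) (hnil n) x
  let F : ∀ n : ℕ, L →ₐ[k] C ⧸ m ^ n := fun n =>
    (Ideal.Quotient.factorₐ k (Ideal.pow_le_pow_right n.le_succ)).comp (l n)
  have hcompat : ∀ {i j : ℕ} (h : i ≤ j),
      (Ideal.Quotient.factorₐ k (Ideal.pow_le_pow_right (show i + 1 ≤ j + 1 by omega))).comp (l j) = l i := by
    intro i j h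
    refine Algebra.FormallyUnramified.lift_unique_of_ringHom
      (p i : (C ⧸ m ^ (i + 1)) →+* ResidueField C) (hnil i) _ _ (RingHom.ext fun x => ?_)
    show p i ((Ideal.Quotient.factorₐ k (Ideal.pow_le_pow_right (show i + 1 ≤ j + 1 by omega))) (l j x)) = p i (l i x)
    rw [hl, ← hl j x]
    obtain ⟨z, hz⟩ := Ideal.Quotient.mk_surjective (l j x)
    rw [← hz]
    rfl
  have hF : ∀ {i j : ℕ} (h : i ≤ j),
      (Ideal.Quotient.factorₐ k (Ideal.pow_le_pow_right h)).comp (F j) = F i := by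
    intro i j h
    refine AlgHom.ext fun x => ?_
    simp only [F, AlgHom.comp_apply, ← DFunLike.congr_fun (hcompat h) x]
    obtain ⟨z, hz⟩ := Ideal.Quotient.mk_surjective (l j x)
    rw [← hz]
    rfl
  refine ⟨IsAdicComplete.liftAlgHom m F hF, fun x => ?_⟩
  have h2 := IsAdicComplete.mk_liftAlgHom m F hF 1 x
  have h3 : p 1 (l 1 x) = g x := hl 1 x
  rw [← h3]
  have h4 : Ideal.Quotient.factor (Ideal.pow_le_self one_ne_zero : m ^ 1 ≤ m) (Ideal.Quotient.mk (m ^ 1)
      (IsAdicComplete.liftAlgHom m F hF x)) = residue C (IsAdicComplete.liftAlgHom m F hF x) := rfl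
  rw [← h4, h2]
  simp only [F, AlgHom.comp_apply]
  obtain ⟨z, hz⟩ := Ideal.Quotient.mk_surjective (l 1 x)
  rw [← hz]
  rfl

theorem spanFinrank_map_ringEquiv_le {R S : Type u} [CommRing R] [CommRing S] [IsNoetherianRing R]
    (e : R ≃+* S) (I : Ideal R) : (I.map e).spanFinrank ≤ I.spanFinrank := by
  have hI : (I : Submodule R R).FG := IsNoetherian.noetherian I
  have h1 : I.map e = Ideal.span (e '' I.generators) := by
    conv_lhs => rw [← Submodule.span_generators I]
    exact Ideal.map_span _ _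
  rw [h1]
  refine (Submodule.spanFinrank_span_le_ncard_of_finite ((Submodule.FG.finite_generators hI).image _)).trans ?_
  exact (Set.ncard_image_le (Submodule.FG.finite_generators hI)).trans (Submodule.FG.generators_ncard hI).le

variable {A : Type u} [CommRing A] [IsLocalRing A] [IsNoetherianRing A]

local notation "Ĉ" => AdicCompletion (maximalIdeal A) A

theorem exists_approx (z : Ĉ) (n : ℕ) :
    ∃ s : A, z - algebraMap A Ĉ s ∈ maximalIdeal Ĉ ^ n := by
  rw [AdicCompletion.maximalIdeal_eq_map]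
  exact Adic7.exists_sub_algebraMap_mem _ (IsNoetherian.noetherian _) z n

theorem mem_pow_of_algebraMap_mem {s : A} {n : ℕ} (h : algebraMap A Ĉ s ∈ maximalIdeal Ĉ ^ n) :
    s ∈ maximalIdeal A ^ n := by
  rw [AdicCompletion.maximalIdeal_eq_map, ← Ideal.map_pow] at h
  have h2 : (maximalIdeal A ^ n).map (algebraMap A Ĉ) ≤
      RingHom.ker (AdicCompletion.evalₐ (maximalIdeal A) n).toRingHom :=
    Ideal.map_le_iff_le_comap.2 fun t ht => by
      show AdicCompletion.evalₐ (maximalIdeal A) n (algebraMap A Ĉ t) = 0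
      rw [AlgHom.commutes]
      exact Ideal.Quotient.eq_zero_iff_mem.2 ht
  have h3 := h2 h
  rw [RingHom.mem_ker] at h3
  have h4 : AdicCompletion.evalₐ (maximalIdeal A) n (algebraMap A Ĉ s) = 0 := h3
  rw [AlgHom.commutes] at h4
  exact Ideal.Quotient.eq_zero_iff_mem.1 h4

theorem mem_max_of_algebraMap_mem {s : A} (h : algebraMap A Ĉ s ∈ maximalIdeal Ĉ) : s ∈ maximalIdeal A := by
  rw [← pow_one (maximalIdeal A)]
  exact mem_pow_of_algebraMap_mem (by rwa [pow_one])

theorem algebraMap_mem {s : A} {n : ℕ} (h : s ∈ maximalIdeal A ^ n) :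
    algebraMap A Ĉ s ∈ maximalIdeal Ĉ ^ n := by
  rw [AdicCompletion.maximalIdeal_eq_map, ← Ideal.map_pow]
  exact Ideal.mem_map_of_mem _ h

theorem algebraMap_mem_max {s : A} (h : s ∈ maximalIdeal A) : algebraMap A Ĉ s ∈ maximalIdeal Ĉ := by
  rw [← pow_one (maximalIdeal Ĉ)]
  exact algebraMap_mem (by rwa [pow_one])

omit [IsNoetherianRing A] in
theorem exists_mem_nonZeroDivisors_of_isReduced [IsNoetherianRing A] [_root_.IsReduced A]
    (h : maximalIdeal A ≠ ⊥) : ∃ r ∈ maximalIdeal A, r ∈ nonZeroDivisors A := by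
  by_contra! hall
  have hsub : (maximalIdeal A : Set A) ⊆ ⋃ P ∈ associatedPrimes A A, (P : Set A) := fun r hr => by
    rw [biUnion_associatedPrimes_eq_zero_divisors A A]
    have hn := hall r hr
    rw [mem_nonZeroDivisors_iff_left] at hn
    push Not at hn
    obtain ⟨z, hz, hz0⟩ := hn
    exact ⟨z, hz0, by simpa using hz⟩
  obtain ⟨P, hP, hmP⟩ := (Ideal.subset_union_prime_finite (associatedPrimes.finite A A) ⊥ ⊥
    (fun P hP _ _ => hP.isPrime)).1 hsub
  obtain ⟨hPp, z, hzP⟩ := isAssociatedPrime_iff.1 hP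
  have hz : ∀ a, a ∈ P ↔ a • z = 0 := fun a => by rw [hzP, Submodule.mem_colon_singleton, Submodule.mem_bot]
  have hz0 : z ≠ 0 := fun h0 => hPp.ne_top ((Ideal.eq_top_iff_one P).2 ((hz 1).2 (by simp [h0])))
  by_cases hzu : IsUnit z
  · refine h (eq_bot_iff.2 fun r hr => ?_)
    simpa [hzu.mul_left_eq_zero] using (hz r).1 (hmP hr)
  · refine hz0 (IsReduced.eq_zero z ⟨2, ?_⟩)
    simpa [pow_two] using (hz z).1 (hmP ((mem_maximalIdeal z).2 hzu))

/-- The algebraic node condition gives the completed normal form. -/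
theorem exists_completion_equiv (k : Type u) [Field k] [Algebra k A]
    [Algebra.IsSeparable k (ResidueField A)] [_root_.IsReduced A]
    (hrank : Module.finrank (ResidueField A) (CotangentSpace A) = 2)
    (x y a b c : A) (hx : x ∈ maximalIdeal A) (hy : y ∈ maximalIdeal A)
    (hgen : Ideal.span {x, y} ⊔ maximalIdeal A ^ 2 = maximalIdeal A)
    (hd : residue A (4 * a * c - b ^ 2) ≠ 0)
    (hq : a * x ^ 2 + b * x * y + c * y ^ 2 ∈ maximalIdeal A ^ 3) :
    ∃ e : Ĉ ≃+* (MvPowerSeries (Fin 2) (ResidueField A) ⧸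
        Ideal.span {quadPS (residue A a) (residue A b) (residue A c)}),
      ∀ t : k, e (algebraMap A Ĉ (algebraMap k A t)) =
        Ideal.Quotient.mk _ (MvPowerSeries.C (algebraMap A (ResidueField A) (algebraMap k A t))) := by
  haveI : IsNoetherianRing Ĉ := LC.Canon.isNoetherianRing_completion (R := A)
  letI : Algebra k Ĉ := ((algebraMap A Ĉ).comp (algebraMap k A)).toAlgebra
  let g : ResidueField A →ₐ[k] ResidueField Ĉ :=
    { ResidueField.map (algebraMap A Ĉ) with commutes' := fun t => rfl }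
  obtain ⟨ι, hι⟩ := exists_section_of_separable g
  letI : Algebra (ResidueField A) Ĉ := ι.toRingHom.toAlgebra
  have hι' : ∀ s : A, residue Ĉ (ι (residue A s)) = residue Ĉ (algebraMap A Ĉ s) := fun s => hι _
  have hιm : ∀ s : A, ι (residue A s) - algebraMap A Ĉ s ∈ maximalIdeal Ĉ := fun s =>
    Ideal.Quotient.eq.1 (hι' s)
  have hm1 : ∀ {s : A}, s ∈ maximalIdeal A → algebraMap A Ĉ s ∈ maximalIdeal Ĉ := fun hs => algebraMap_mem_max hs
  have hres : ∀ z : Ĉ, ∃ t : ResidueField A, z - algebraMap (ResidueField A) Ĉ t ∈ maximalIdeal Ĉ := fun z => by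
    obtain ⟨s, hs⟩ := exists_approx z 1
    refine ⟨residue A s, ?_⟩
    rw [pow_one] at hs
    have := sub_mem hs (hιm s)
    rwa [sub_sub_sub_cancel_right] at this
  have hgen' : maximalIdeal Ĉ = Ideal.span {algebraMap A Ĉ x, algebraMap A Ĉ y} := by
    have h1 : Ideal.span {x, y} = maximalIdeal A := by
      refine le_antisymm (hgen ▸ le_sup_left) ?_
      refine Submodule.le_of_le_smul_of_le_jacobson_bot (IsNoetherian.noetherian _)
        (maximalIdeal_le_jacobson _) ?_
      rw [smul_eq_mul, ← pow_two, hgen]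
    refine AdicCompletion.maximalIdeal_eq_map.trans ((congrArg (Ideal.map (algebraMap A Ĉ)) h1.symm).trans ?_)
    rw [Ideal.map_span, Set.image_pair]
  have hrA : (maximalIdeal A).spanFinrank = 2 := by
    rw [spanFinrank_maximalIdeal_eq_finrank_cotangentSpace]; exact hrank
  have hrC : (maximalIdeal Ĉ).spanFinrank = 2 := by
    rw [AdicCompletion.spanFinrank_maximalIdeal_eq]; exact hrA
  obtain ⟨r, hrm, hr⟩ := exists_mem_nonZeroDivisors_of_isReduced (A := A) (fun hb => by
    rw [hb, Submodule.spanFinrank_bot] at hrA; omega)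
  haveI : Module.Flat A Ĉ := AdicCompletion.flat_of_isNoetherian _
  have hreg : ∀ z : Ĉ, algebraMap A Ĉ r * z = 0 → z = 0 := fun z hz => by
    refine Module.Flat.isSMulRegular_of_nonZeroDivisors (M := Ĉ) hr ?_
    show r • z = r • 0
    rw [Algebra.smul_def, hz, smul_zero]
  have hd' : 4 * residue A a * residue A c - residue A b ^ 2 ≠ 0 := by simpa [map_ofNat] using hd
  have hq' : quad (algebraMap (ResidueField A) Ĉ (residue A a)) (algebraMap (ResidueField A) Ĉ (residue A b))
      (algebraMap (ResidueField A) Ĉ (residue A c)) (algebraMap A Ĉ x) (algebraMap A Ĉ y) ∈ maximalIdeal Ĉ ^ 3 := by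
    have h0 := algebraMap_mem hq
    simp only [map_add, map_mul, map_pow] at h0
    have hsq : ∀ {u v w : Ĉ}, u ∈ maximalIdeal Ĉ → v ∈ maximalIdeal Ĉ → w ∈ maximalIdeal Ĉ →
        u * v * w ∈ maximalIdeal Ĉ ^ 3 := fun hu hv hw => by
      rw [pow_three']
      exact Ideal.mul_mem_mul (Ideal.mul_mem_mul hu hv) hw
    have := add_mem h0 (add_mem (add_mem (hsq (hιm a) (hm1 hx) (hm1 hx)) (hsq (hιm b) (hm1 hx) (hm1 hy)))
      (hsq (hιm c) (hm1 hy) (hm1 hy)))
    convert this using 1
    show quad (ι _) (ι _) (ι _) _ _ = _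
    simp only [quad]
    ring
  obtain ⟨E⟩ := exists_equiv_quad hres _ _ hgen' hrC (algebraMap A Ĉ r) (hm1 hrm) hreg hd' hq'
  refine ⟨E.symm.toRingEquiv, fun t => ?_⟩
  have h1 : algebraMap A Ĉ (algebraMap k A t) = algebraMap (ResidueField A) Ĉ (algebraMap k (ResidueField A) t) :=
    (ι.commutes t).symm
  rw [h1]
  refine (E.symm.commutes _).trans ?_
  rw [IsScalarTower.algebraMap_apply k A (ResidueField A)]
  rfl

/-- The completed normal form gives the algebraic node condition. -/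
theorem of_completion_equiv {K : Type u} [Field K] {a b c : K} (hd : 4 * a * c - b ^ 2 ≠ 0)
    (e : Ĉ ≃+* (MvPowerSeries (Fin 2) K ⧸ Ideal.span {quadPS a b c})) :
    _root_.IsReduced A ∧ Module.finrank (ResidueField A) (CotangentSpace A) = 2 ∧
      ∃ x y a' b' c' : A, x ∈ maximalIdeal A ∧ y ∈ maximalIdeal A ∧
        Ideal.span {x, y} ⊔ maximalIdeal A ^ 2 = maximalIdeal A ∧
        residue A (4 * a' * c' - b' ^ 2) ≠ 0 ∧
        a' * x ^ 2 + b' * x * y + c' * y ^ 2 ∈ maximalIdeal A ^ 3 := by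
  set Q := MvPowerSeries (Fin 2) K ⧸ Ideal.span {quadPS a b c} with hQ
  haveI : IsNoetherianRing Ĉ := LC.Canon.isNoetherianRing_completion (R := A)
  haveI : IsLocalRing Q := e.isLocalRing
  haveI := isReduced_quotient hd
  have hredC : _root_.IsReduced Ĉ := isReduced_of_injective e e.injective
  have hinj : Function.Injective (algebraMap A Ĉ) := by
    rw [injective_iff_map_eq_zero]
    intro s hs
    have : s ∈ ⨅ n : ℕ, maximalIdeal A ^ n :=
      Submodule.mem_iInf _ |>.2 fun n => mem_pow_of_algebraMap_mem (hs ▸ zero_mem _)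
    rwa [Ideal.iInf_pow_eq_bot_of_isLocalRing _ (maximalIdeal.isMaximal A).ne_top, Ideal.mem_bot] at this
  refine ⟨isReduced_of_injective _ hinj, ?_, ?_⟩
  · rw [← spanFinrank_maximalIdeal_eq_finrank_cotangentSpace, ← AdicCompletion.spanFinrank_maximalIdeal_eq]
    have hm : (maximalIdeal Ĉ).map e = maximalIdeal Q := map_maximalIdeal_of_surjective (e : Ĉ →+* Q) e.surjective
    refine le_antisymm ?_ ?_
    · have := spanFinrank_map_ringEquiv_le e.symm (maximalIdeal Q)
      rwa [spanFinrank_quotient hd, show (maximalIdeal Q).map e.symm = maximalIdeal Ĉ from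
        map_maximalIdeal_of_surjective (e.symm : Q →+* Ĉ) e.symm.surjective] at this
    · have := spanFinrank_map_ringEquiv_le e (maximalIdeal Ĉ)
      rwa [hm, spanFinrank_quotient hd] at this
  let π : MvPowerSeries (Fin 2) K →+* Ĉ := (e.symm : Q →+* Ĉ).comp (Ideal.Quotient.mk _)
  have hπs : Function.Surjective π := e.symm.surjective.comp Ideal.Quotient.mk_surjective
  have hπm : (PSLib.vars 2 K).map π = maximalIdeal Ĉ := by
    rw [← maximalIdeal_eq_vars]; exact map_maximalIdeal_of_surjective π hπs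
  have hπgen : maximalIdeal Ĉ = Ideal.span {π (MvPowerSeries.X 0), π (MvPowerSeries.X 1)} := by
    rw [← hπm, vars_eq_span, Ideal.map_span, Set.image_pair]
  set X := π (MvPowerSeries.X 0) with hX
  set Y := π (MvPowerSeries.X 1) with hY
  have hXm : X ∈ maximalIdeal Ĉ := hπgen ▸ Ideal.subset_span (by simp)
  have hYm : Y ∈ maximalIdeal Ĉ := hπgen ▸ Ideal.subset_span (by simp)
  have hq0 : quad (π (MvPowerSeries.C a)) (π (MvPowerSeries.C b)) (π (MvPowerSeries.C c)) X Y = 0 := by
    rw [hX, hY, ← map_quad]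
    show e.symm (Ideal.Quotient.mk _ (quadPS a b c)) = 0
    rw [Ideal.Quotient.eq_zero_iff_mem.2 (Ideal.mem_span_singleton_self _), map_zero]
  obtain ⟨x, hx⟩ := exists_approx X 2
  obtain ⟨y, hy⟩ := exists_approx Y 2
  obtain ⟨a', ha⟩ := exists_approx (π (MvPowerSeries.C a)) 1
  obtain ⟨b', hb⟩ := exists_approx (π (MvPowerSeries.C b)) 1
  obtain ⟨c', hc⟩ := exists_approx (π (MvPowerSeries.C c)) 1
  rw [pow_one] at ha hb hc
  have hxC : algebraMap A Ĉ x ∈ maximalIdeal Ĉ := by
    simpa using sub_mem hXm (Ideal.pow_le_self two_ne_zero hx)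
  have hyC : algebraMap A Ĉ y ∈ maximalIdeal Ĉ := by
    simpa using sub_mem hYm (Ideal.pow_le_self two_ne_zero hy)
  have hxm : x ∈ maximalIdeal A := mem_max_of_algebraMap_mem hxC
  have hym : y ∈ maximalIdeal A := mem_max_of_algebraMap_mem hyC
  refine ⟨x, y, a', b', c', hxm, hym, ?_, ?_, mem_pow_of_algebraMap_mem ?_⟩
  · refine le_antisymm (sup_le (Ideal.span_le.2 (by simp [Set.insert_subset_iff, hxm, hym]))
      (Ideal.pow_le_self two_ne_zero)) fun z hz => ?_
    have hzC : algebraMap A Ĉ z ∈ maximalIdeal Ĉ := algebraMap_mem_max hz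
    rw [hπgen, Ideal.mem_span_pair] at hzC
    obtain ⟨s, t, hst⟩ := hzC
    obtain ⟨s', hs⟩ := exists_approx s 1
    obtain ⟨t', ht⟩ := exists_approx t 1
    rw [pow_one] at hs ht
    rw [show z = (s' * x + t' * y) + (z - (s' * x + t' * y)) by ring]
    refine add_mem (Ideal.mem_sup_left (Ideal.mem_span_pair.2 ⟨s', t', rfl⟩)) (Ideal.mem_sup_right ?_)
    refine mem_pow_of_algebraMap_mem ?_
    have h2 : ∀ {u v : Ĉ}, u ∈ maximalIdeal Ĉ → v ∈ maximalIdeal Ĉ → u * v ∈ maximalIdeal Ĉ ^ 2 := fun hu hv => by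
      rw [pow_two]; exact Ideal.mul_mem_mul hu hv
    have := add_mem (add_mem (h2 hs hXm) (h2 ht hYm))
      (add_mem (Ideal.mul_mem_left _ (algebraMap A Ĉ s') hx) (Ideal.mul_mem_left _ (algebraMap A Ĉ t') hy))
    convert this using 1
    rw [map_sub, map_add, map_mul, map_mul, ← hst]
    ring
  · intro h0
    rw [residue_eq_zero_iff] at h0
    have h1 : algebraMap A Ĉ (4 * a' * c' - b' ^ 2) ∈ maximalIdeal Ĉ := algebraMap_mem_max h0
    simp only [map_sub, map_mul, map_pow, map_ofNat] at h1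
    have h2 : π (MvPowerSeries.C (4 * a * c - b ^ 2)) ∈ maximalIdeal Ĉ := by
      have := add_mem h1 (sub_mem (add_mem (Ideal.mul_mem_left _ (4 * π (MvPowerSeries.C c)) ha)
        (Ideal.mul_mem_left _ (4 * algebraMap A Ĉ a') hc))
        (Ideal.mul_mem_left _ (π (MvPowerSeries.C b) + algebraMap A Ĉ b') hb))
      convert this using 1
      simp only [map_sub, map_mul, map_pow, map_ofNat]
      ring
    exact (mem_maximalIdeal _).1 h2 (((Ne.isUnit hd).map MvPowerSeries.C).map π)
  · simp only [map_add, map_mul, map_pow]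
    have hsq : ∀ {u v w : Ĉ}, u ∈ maximalIdeal Ĉ → v ∈ maximalIdeal Ĉ → w ∈ maximalIdeal Ĉ →
        u * v * w ∈ maximalIdeal Ĉ ^ 3 := fun hu hv hw => by
      rw [pow_three']
      exact Ideal.mul_mem_mul (Ideal.mul_mem_mul hu hv) hw
    have h21 : ∀ {u v : Ĉ}, u ∈ maximalIdeal Ĉ ^ 2 → v ∈ maximalIdeal Ĉ → u * v ∈ maximalIdeal Ĉ ^ 3 := fun hu hv => by
      rw [pow_succ]; exact Ideal.mul_mem_mul hu hv
    have := neg_mem (add_mem (add_mem (add_mem (hsq ha hxC hxC) (hsq hb hxC hyC)) (hsq hc hyC hyC))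
      (add_mem (h21 hx (add_mem (Ideal.mul_mem_left _ (π (MvPowerSeries.C a)) (add_mem hXm hxC))
          (Ideal.mul_mem_left _ (π (MvPowerSeries.C b)) hYm)))
        (h21 hy (add_mem (Ideal.mul_mem_left _ (π (MvPowerSeries.C b)) hxC)
          (Ideal.mul_mem_left _ (π (MvPowerSeries.C c)) (add_mem hYm hyC))))))
    convert this using 1
    simp only [quad] at hq0
    linear_combination hq0

end Groth.Agent.NodeAlg15
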