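import Groth.Agent.NodeAlg15.Quad
import Mathlib.FieldTheory.IsAlgClosed.Basic

/-!
# Normal forms of quadratic nodes
-/

set_option autoImplicit false
set_option linter.style.haveILetI false

universe u

namespace Groth.Agent.NodeAlg15

open IsLocalRing

variable {K : Type u} [Field K]

theorem X_prime (i : Fin 2) : Prime (MvPowerSeries.X i : MvPowerSeries (Fin 2) K) := by
  obtain ⟨h1, h2⟩ := ufd_ps (K := K)
  rw [← irreducible_iff_prime]
  refine ⟨fun hu => ?_, fun a b hab => ?_⟩
  · rw [MvPowerSeries.isUnit_iff_constantCoeff] at hu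
    simp at hu
  · by_contra! h
    obtain ⟨ha, hb⟩ := h
    have ha' : a ∈ PSLib.vars 2 K := maximalIdeal_eq_vars (K := K) ▸ (mem_maximalIdeal _).2 ha
    have hb' : b ∈ PSLib.vars 2 K := maximalIdeal_eq_vars (K := K) ▸ (mem_maximalIdeal _).2 hb
    have hh : MvPowerSeries.X i ∈ PSLib.vars 2 K ^ 2 := by rw [hab, pow_two]; exact Ideal.mul_mem_mul ha' hb'
    classical
    have := PSLib.coeff_eq_zero_of_mem_pow 2 _ hh (Finsupp.single i 1) (by simp)
    simp at this

theorem linear_prime {α β : K} (h : α ≠ 0 ∨ β ≠ 0) :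
    Prime (MvPowerSeries.C α * MvPowerSeries.X 0 + MvPowerSeries.C β * MvPowerSeries.X 1 :
      MvPowerSeries (Fin 2) K) := by
  obtain ⟨h1, h2⟩ := ufd_ps (K := K)
  rw [← irreducible_iff_prime]
  refine ⟨fun hu => ?_, fun a b hab => ?_⟩
  · rw [MvPowerSeries.isUnit_iff_constantCoeff] at hu
    simp at hu
  · by_contra! hh
    obtain ⟨ha, hb⟩ := hh
    have ha' : a ∈ PSLib.vars 2 K := maximalIdeal_eq_vars (K := K) ▸ (mem_maximalIdeal _).2 ha
    have hb' : b ∈ PSLib.vars 2 K := maximalIdeal_eq_vars (K := K) ▸ (mem_maximalIdeal _).2 hb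
    obtain ⟨e1, e2⟩ := coeff_linear _ _ (by rw [hab, pow_two]; exact Ideal.mul_mem_mul ha' hb')
    simp only [MvPowerSeries.constantCoeff_C] at e1 e2
    tauto

/-- The standard model is a quadratic node. -/
theorem isQuadNode_quotient {a b c : K} (hd : 4 * a * c - b ^ 2 ≠ 0)
    [IsLocalRing (MvPowerSeries (Fin 2) K ⧸ Ideal.span {quadPS a b c})] :
    IsQuadNode (MvPowerSeries (Fin 2) K ⧸ Ideal.span {quadPS a b c}) := by
  obtain ⟨hdom, hufd⟩ := ufd_ps (K := K)
  set π := Ideal.Quotient.mk (Ideal.span {quadPS a b c}) with hπ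
  have hm : maximalIdeal (MvPowerSeries (Fin 2) K ⧸ Ideal.span {quadPS a b c}) =
      Ideal.span {π (MvPowerSeries.X 0), π (MvPowerSeries.X 1)} := by
    rw [← map_maximalIdeal_of_surjective π Ideal.Quotient.mk_surjective, maximalIdeal_eq_vars, vars_eq_span,
      Ideal.map_span, Set.image_pair]
  refine ⟨spanFinrank_quotient hd, ?_, π (MvPowerSeries.X 0), π (MvPowerSeries.X 1), π (MvPowerSeries.C a),
    π (MvPowerSeries.C b), π (MvPowerSeries.C c), hm, ?_, ?_⟩
  · -- a linear form prime to the equation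
    obtain ⟨α, β, hαβ, hnd⟩ : ∃ α β : K, (α ≠ 0 ∨ β ≠ 0) ∧
        ¬ (MvPowerSeries.C α * MvPowerSeries.X 0 + MvPowerSeries.C β * MvPowerSeries.X 1) ∣ quadPS a b c := by
      have key : ∀ α β : K, (MvPowerSeries.C α * MvPowerSeries.X 0 + MvPowerSeries.C β * MvPowerSeries.X 1) ∣
          quadPS a b c → a * β ^ 2 - b * α * β + c * α ^ 2 = 0 := by
        rintro α β ⟨w, hw⟩
        have hwm : w ∈ PSLib.vars 2 K := by
          rw [← maximalIdeal_eq_vars, mem_maximalIdeal, mem_nonunits_iff]
          intro hu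
          obtain ⟨e, he⟩ := hu.exists_left_inv
          have h2 : MvPowerSeries.C α * MvPowerSeries.X 0 + MvPowerSeries.C β * MvPowerSeries.X 1 ∈ PSLib.vars 2 K ^ 2 := by
            have := Ideal.mul_mem_left _ e (quadPS_mem a b c)
            rw [hw] at this
            convert this using 1
            linear_combination (-(MvPowerSeries.C α * MvPowerSeries.X 0 + MvPowerSeries.C β * MvPowerSeries.X 1)) * he
          obtain ⟨e1, e2⟩ := coeff_linear _ _ h2
          simp only [MvPowerSeries.constantCoeff_C] at e1 e2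
          subst e1 e2
          simp at hw
          exact quadPS_ne_zero hd hw
        rw [vars_eq_span, Ideal.mem_span_pair] at hwm
        obtain ⟨w0, w1, rfl⟩ := hwm
        obtain ⟨ea, eb, ec⟩ := coeff_quad (MvPowerSeries.C a - MvPowerSeries.C α * w0)
          (MvPowerSeries.C b - (MvPowerSeries.C α * w1 + MvPowerSeries.C β * w0))
          (MvPowerSeries.C c - MvPowerSeries.C β * w1) (by
            have : quad (MvPowerSeries.C a - MvPowerSeries.C α * w0)
                (MvPowerSeries.C b - (MvPowerSeries.C α * w1 + MvPowerSeries.C β * w0))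
                (MvPowerSeries.C c - MvPowerSeries.C β * w1) (MvPowerSeries.X 0) (MvPowerSeries.X 1) = 0 := by
              simp only [quadPS, quad] at hw ⊢
              linear_combination hw
            rw [this]; exact zero_mem _)
        simp only [map_sub, map_add, map_mul, MvPowerSeries.constantCoeff_C] at ea eb ec
        linear_combination β ^ 2 * ea - α * β * eb + α ^ 2 * ec
      by_cases ha : a = 0
      · by_cases hc : c = 0
        · refine ⟨1, 1, Or.inl one_ne_zero, fun hh => hd ?_⟩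
          have := key 1 1 hh
          rw [ha, hc] at this ⊢
          linear_combination b * this
        · exact ⟨1, 0, Or.inl one_ne_zero, fun hh => hc (by simpa using key 1 0 hh)⟩
      · exact ⟨0, 1, Or.inr one_ne_zero, fun hh => ha (by simpa using key 0 1 hh)⟩
    refine ⟨π (MvPowerSeries.C α * MvPowerSeries.X 0 + MvPowerSeries.C β * MvPowerSeries.X 1), ?_, ?_⟩
    · rw [hm, Ideal.mem_span_pair]
      exact ⟨π (MvPowerSeries.C α), π (MvPowerSeries.C β), by simp⟩
    · rw [mem_nonZeroDivisors_iff_right]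
      intro z hz
      obtain ⟨z, rfl⟩ := Ideal.Quotient.mk_surjective z
      rw [hπ, ← map_mul, Ideal.Quotient.eq_zero_iff_mem, Ideal.mem_span_singleton] at hz
      rw [Ideal.Quotient.eq_zero_iff_mem, Ideal.mem_span_singleton]
      obtain ⟨w, hw⟩ := hz
      have hd2 : (MvPowerSeries.C α * MvPowerSeries.X 0 + MvPowerSeries.C β * MvPowerSeries.X 1) ∣ quadPS a b c * w :=
        ⟨z, by linear_combination -hw⟩
      obtain ⟨w', rfl⟩ := ((linear_prime hαβ).dvd_mul.1 hd2).resolve_left hnd
      refine ⟨w', mul_right_cancel₀ (linear_prime hαβ).ne_zero ?_⟩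
      linear_combination hw
  · have := ((Ne.isUnit hd).map (MvPowerSeries.C (σ := Fin 2) (R := K))).map π
    simpa [map_ofNat] using this
  · rw [← map_quad, hπ, show Ideal.Quotient.mk (Ideal.span {quadPS a b c}) (quad (MvPowerSeries.C a) (MvPowerSeries.C b)
      (MvPowerSeries.C c) (MvPowerSeries.X 0) (MvPowerSeries.X 1)) = 0 from
      Ideal.Quotient.eq_zero_iff_mem.2 (Ideal.mem_span_singleton_self _)]
    exact zero_mem _

theorem isQuadNode_of_ringEquiv {A B : Type u} [CommRing A] [IsLocalRing A] [IsNoetherianRing A] [CommRing B]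
    [IsLocalRing B] [IsNoetherianRing B] (e : A ≃+* B) (h : IsQuadNode A) : IsQuadNode B := by
  letI : Algebra A B := e.toRingHom.toAlgebra
  haveI : IsLocalHom (algebraMap A B) := ⟨fun x hx => by
    have := hx.map e.symm
    simpa [RingHom.algebraMap_toAlgebra] using this⟩
  haveI : Module.Flat A B :=
    Module.Flat.of_linearEquiv ({ e.symm.toAddEquiv with
      map_smul' := fun r x => by
        show e.symm (e r * x) = r * e.symm x
        rw [map_mul, e.symm_apply_apply] } : B ≃ₗ[A] A)
  exact (isQuadNode_iff_of_flat (map_maximalIdeal_of_surjective _ e.surjective)).1 h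

variable {A : Type u} [CommRing A] [IsLocalRing A] [IsNoetherianRing A]

local notation "Ĉ" => AdicCompletion (maximalIdeal A) A

theorem isQuadNode_iff_completion : IsQuadNode A ↔ IsQuadNode Ĉ := by
  haveI : IsNoetherianRing Ĉ := LC.Canon.isNoetherianRing_completion (R := A)
  haveI : Module.Flat A Ĉ := AdicCompletion.flat_of_isNoetherian _
  exact isQuadNode_iff_of_flat AdicCompletion.maximalIdeal_eq_map.symm

theorem isQuadNode_of_completion_equiv {a b c : K} (hd : 4 * a * c - b ^ 2 ≠ 0)
    (e : Ĉ ≃+* (MvPowerSeries (Fin 2) K ⧸ Ideal.span {quadPS a b c})) : IsQuadNode A := by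
  haveI : IsNoetherianRing Ĉ := LC.Canon.isNoetherianRing_completion (R := A)
  haveI : IsLocalRing (MvPowerSeries (Fin 2) K ⧸ Ideal.span {quadPS a b c}) := e.isLocalRing
  exact isQuadNode_iff_completion.2 (isQuadNode_of_ringEquiv e.symm (isQuadNode_quotient hd))

/-- A complete quadratic node with a coefficient field is a quadratic singularity. -/
theorem exists_equiv_of_isQuadNode {C : Type u} [CommRing C] [IsLocalRing C] [IsNoetherianRing C]
    [IsAdicComplete (maximalIdeal C) C] [Algebra K C]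
    (hres : ∀ z : C, ∃ t : K, z - algebraMap K C t ∈ maximalIdeal C) (h : IsQuadNode C) :
    ∃ a b c : K, 4 * a * c - b ^ 2 ≠ 0 ∧
      Nonempty ((MvPowerSeries (Fin 2) K ⧸ Ideal.span {quadPS a b c}) ≃ₐ[K] C) := by
  obtain ⟨h2, ⟨r, hr, hr0⟩, x, y, a, b, c, hxy, hu, hq⟩ := h
  obtain ⟨a₀, ha⟩ := hres a
  obtain ⟨b₀, hb⟩ := hres b
  obtain ⟨c₀, hc⟩ := hres c
  have hd : 4 * a₀ * c₀ - b₀ ^ 2 ≠ 0 := fun h0 => by
    refine (mem_maximalIdeal _).1 ?_ hu
    have hm : algebraMap K C (4 * a₀ * c₀ - b₀ ^ 2) ∈ maximalIdeal C := by rw [h0, map_zero]; exact zero_mem _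
    have := add_mem hm (sub_mem (add_mem (Ideal.mul_mem_left _ (4 * c) ha)
      (Ideal.mul_mem_left _ (4 * algebraMap K C a₀) hc)) (Ideal.mul_mem_left _ (b + algebraMap K C b₀) hb))
    convert this using 1
    simp only [map_sub, map_mul, map_pow, map_ofNat]
    ring
  have hx : x ∈ maximalIdeal C := hxy ▸ Ideal.subset_span (by simp)
  have hy : y ∈ maximalIdeal C := hxy ▸ Ideal.subset_span (by simp)
  have hsq : ∀ {u v w : C}, u ∈ maximalIdeal C → v ∈ maximalIdeal C → w ∈ maximalIdeal C →
      u * v * w ∈ maximalIdeal C ^ 3 := fun hu hv hw => by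
    rw [pow_three']
    exact Ideal.mul_mem_mul (Ideal.mul_mem_mul hu hv) hw
  refine ⟨a₀, b₀, c₀, hd, exists_equiv_quad hres x y hxy h2 r hr (fun z hz => ?_) hd ?_⟩
  · exact hr0.1 z hz
  · have := sub_mem hq (add_mem (add_mem (hsq ha hx hx) (hsq hb hx hy)) (hsq hc hy hy))
    convert this using 1
    simp only [quad]
    ring

/-- Over an algebraically closed field every nondegenerate quadratic singularity is a node. -/
theorem exists_equiv_node [IsAlgClosed K] {a b c : K} (hd : 4 * a * c - b ^ 2 ≠ 0) :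
    Nonempty ((MvPowerSeries (Fin 2) K ⧸ Ideal.span {quadPS a b c}) ≃ₐ[K] (MvPowerSeries (Fin 2) K ⧸
      Ideal.span {(MvPowerSeries.X 0 * MvPowerSeries.X 1 : MvPowerSeries (Fin 2) K)})) := by
  obtain ⟨p, q, s, t, hdet, ha, hb, hc⟩ : ∃ p q s t : K, p * t - q * s ≠ 0 ∧ p * s = a ∧ p * t + q * s = b ∧ q * t = c := by
    by_cases ha : a = 0
    · refine ⟨0, 1, b, c, fun h => hd ?_, by simp [ha], by simp, by simp⟩
      rw [ha]
      linear_combination b * h
    · obtain ⟨r, hr⟩ := IsAlgClosed.exists_root (Polynomial.C a * Polynomial.X ^ 2 + Polynomial.C b * Polynomial.X +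
        Polynomial.C c) (by rw [Polynomial.degree_quadratic ha]; norm_num)
      simp only [Polynomial.IsRoot, Polynomial.eval_add, Polynomial.eval_mul, Polynomial.eval_C, Polynomial.eval_pow,
        Polynomial.eval_X] at hr
      refine ⟨1, -r, a, b + a * r, fun h => hd ?_, one_mul _, by ring, by linear_combination -hr⟩
      linear_combination 4 * a * hr - (b + 2 * a * r) * h
  let L0 : MvPowerSeries (Fin 2) K := MvPowerSeries.C p * MvPowerSeries.X 0 + MvPowerSeries.C q * MvPowerSeries.X 1
  let L1 : MvPowerSeries (Fin 2) K := MvPowerSeries.C s * MvPowerSeries.X 0 + MvPowerSeries.C t * MvPowerSeries.X 1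
  have hX : ∀ i : Fin 2, (MvPowerSeries.X i : MvPowerSeries (Fin 2) K) ∈ PSLib.vars 2 K := fun i =>
    Ideal.subset_span ⟨i, rfl⟩
  obtain ⟨ψ, hψ⟩ := PSLib.exists_algHom (R := K) (A := MvPowerSeries (Fin 2) K) (PSLib.vars 2 K) ![L0, L1] (by
    intro i
    fin_cases i <;> exact add_mem (Ideal.mul_mem_left _ _ (hX 0)) (Ideal.mul_mem_left _ _ (hX 1)))
  have h0 : ψ (MvPowerSeries.X 0) = L0 := by simpa using hψ 0
  have h1 : ψ (MvPowerSeries.X 1) = L1 := by simpa using hψ 1
  have hbij := PSLib.bijective_of_first_order ψ (fun i => by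
    fin_cases i
    · show ψ (MvPowerSeries.X 0) ∈ _
      rw [h0]; exact add_mem (Ideal.mul_mem_left _ _ (hX 0)) (Ideal.mul_mem_left _ _ (hX 1))
    · show ψ (MvPowerSeries.X 1) ∈ _
      rw [h1]; exact add_mem (Ideal.mul_mem_left _ _ (hX 0)) (Ideal.mul_mem_left _ _ (hX 1))) fun j => by
    have hC : MvPowerSeries.C ((p * t - q * s)⁻¹ : K) * MvPowerSeries.C (p * t - q * s) = (1 : MvPowerSeries (Fin 2) K) := by
      rw [← map_mul, inv_mul_cancel₀ hdet, map_one]
    simp only [map_sub, map_mul] at hC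
    have m0 : L0 ∈ Ideal.span (Set.range fun i => ψ (MvPowerSeries.X i)) := Ideal.subset_span ⟨0, h0⟩
    have m1 : L1 ∈ Ideal.span (Set.range fun i => ψ (MvPowerSeries.X i)) := Ideal.subset_span ⟨1, h1⟩
    refine Ideal.mem_sup_left ?_
    obtain rfl | rfl : j = 0 ∨ j = 1 := by fin_cases j <;> simp
    · have := Ideal.mul_mem_left _ (MvPowerSeries.C ((p * t - q * s)⁻¹ : K))
        (sub_mem (Ideal.mul_mem_left _ (MvPowerSeries.C t) m0) (Ideal.mul_mem_left _ (MvPowerSeries.C q) m1))
      convert this using 1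
      simp only [L0, L1]
      linear_combination (-(MvPowerSeries.X 0)) * hC
    · have := Ideal.mul_mem_left _ (MvPowerSeries.C ((p * t - q * s)⁻¹ : K))
        (sub_mem (Ideal.mul_mem_left _ (MvPowerSeries.C p) m1) (Ideal.mul_mem_left _ (MvPowerSeries.C s) m0))
      convert this using 1
      simp only [L0, L1]
      linear_combination (-(MvPowerSeries.X 1)) * hC
  have hψq : (AlgEquiv.ofBijective ψ hbij) (MvPowerSeries.X 0 * MvPowerSeries.X 1) = quadPS a b c := by
    show ψ _ = _
    rw [map_mul, h0, h1, quadPS, ← ha, ← hb, ← hc]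
    simp only [quad, L0, L1, map_add, map_mul]
    ring
  refine ⟨(Ideal.quotientEquivAlg _ _ (AlgEquiv.ofBijective ψ hbij) ?_).symm⟩
  rw [Ideal.map_span, Set.image_singleton]
  exact congrArg _ (congrArg _ hψq.symm)

end Groth.Agent.NodeAlg15
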