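import Groth.Agent.NodeAlg15.BaseChange
import Groth.Agent.NodeAlg15.Normal
import Groth.Agent.GeomField.Chart
import Groth.Agent.GeomConn5.Point
import Groth.Agent.CStk17.NodeSch

/-!
# The local criterion for nodes of schemes over a field

A point is a node if and only if it is closed, its residue field is separable over the base field and
its local ring is a quadratic node.
-/

set_option autoImplicit false
set_option backward.isDefEq.respectTransparency false
set_option backward.isDefEq.respectTransparency.types false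
set_option linter.style.haveILetI false

universe u

open CategoryTheory CategoryTheory.Limits AlgebraicGeometry IsLocalRing TensorProduct

namespace Groth.Agent.NodeAlg15.Geom

open CStk17.SchPt

attribute [local instance] Curv2.stalkAlgebra

/-- The local ring at a point of an affine open, as a localization. -/
theorem exists_localization {X : Scheme.{u}} {R : Type u} [CommRing R] (e : Spec (CommRingCat.of R) ⟶ X)
    [IsOpenImmersion e] {x : X} (hx : x ∈ Set.range e) :
    ∃ (σ : R →+* X.presheaf.stalk x) (P : Ideal R) (_ : P.IsPrime),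
      Spec.map (CommRingCat.ofHom σ) ≫ e = X.fromSpecStalk x ∧
        (letI := σ.toAlgebra; IsLocalization.AtPrime (X.presheaf.stalk x) P) := by
  obtain ⟨P, rfl⟩ := hx
  let σ : R →+* X.presheaf.stalk (e P) := ((StructureSheaf.toStalk R P) ≫ inv (e.stalkMap P)).hom
  refine ⟨σ, PrimeSpectrum.asIdeal (R := R) P, inferInstance, ?_, ?_⟩
  · have h : Spec.map (StructureSheaf.toStalk R P) = (Spec (CommRingCat.of R)).fromSpecStalk P :=
      (Spec.fromSpecStalk_eq' (R := CommRingCat.of R) (x := P)).symm
    rw [CommRingCat.ofHom_hom, Spec.map_comp, Category.assoc]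
    refine (congrArg (fun f => Spec.map (inv (e.stalkMap P)) ≫ f ≫ e) h).trans ?_
    show Spec.map (inv (e.stalkMap P)) ≫ (Spec (CommRingCat.of R)).fromSpecStalk P ≫ e = _
    rw [← Scheme.SpecMap_stalkMap_fromSpecStalk e, ← Category.assoc, ← Spec.map_comp, IsIso.hom_inv_id,
      Spec.map_id, Category.id_comp]
  · letI := σ.toAlgebra
    let i : (Spec.structureSheaf R).presheaf.stalk P ≅ X.presheaf.stalk (e P) := (asIso (e.stalkMap P)).symm
    exact IsLocalization.isLocalization_of_algEquiv (PrimeSpectrum.asIdeal (R := R) P).primeCompl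
      (AlgEquiv.ofRingEquiv (f := i.commRingCatIsoToRingEquiv) fun _ => rfl)

theorem isSeparable_res_iff (k : Type u) [Field k] (X : Scheme.{u}) [X.Over (Spec (CommRingCat.of k))] (x : X) :
    @Algebra.IsSeparable k (X.residueField x) _ _ (Curv2.resAlgebra k X x) ↔
      Algebra.IsSeparable k (ResidueField (X.presheaf.stalk x)) := by
  letI := Curv2.resAlgebra k X x
  let e : X.residueField x ≃ₐ[k] ResidueField (X.presheaf.stalk x) :=
    AlgEquiv.ofRingEquiv (f := RingEquiv.refl _) fun _ => rfl
  exact ⟨fun _ => AlgEquiv.Algebra.isSeparable e, fun _ => AlgEquiv.Algebra.isSeparable e.symm⟩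

variable {k : Type u} [Field k] {X : Scheme.{u}} [X.Over (Spec (CommRingCat.of k))]
  [LocallyOfFiniteType (X ↘ Spec (CommRingCat.of k))]
variable {K : Type u} [Field K] [Algebra k K]

omit [LocallyOfFiniteType (X ↘ Spec (CommRingCat.of k))] in
theorem bcEmb_snd (c : GeomField.Chart k X) :
    c.bcEmb K ≫ Curv2.bcSnd k X K =
      Spec.map (CommRingCat.ofHom (Algebra.TensorProduct.includeRight : K →ₐ[k] c.R ⊗[k] K).toRingHom) := by
  rw [GeomField.Chart.bcEmb, Category.assoc, Category.assoc, Category.assoc,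
    pullbackRightPullbackFstIso_inv_snd_snd, pullback.congrHom_inv, pullback.lift_snd, Category.comp_id,
    pullbackSpecIso_inv_snd]
  rfl

instance flat_bcFst : Flat (Curv2.bcFst k X K) := by
  haveI : Flat (Spec.map (CommRingCat.ofHom (algebraMap k K))) := by
    rw [HasRingHomProperty.Spec_iff (P := @Flat)]
    exact RingHom.flat_algebraMap_iff.2 (inferInstance : Module.Flat k K)
  exact MorphismProperty.pullback_fst _ _ inferInstance

/-- Separable residue fields give unramified base changes, and so do quadratic nodes upstairs. -/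
theorem bc_stalk (z : Curv2.bc k X K) :
    (Algebra.IsSeparable k (ResidueField (X.presheaf.stalk (Curv2.bcFst k X K z))) →
        (maximalIdeal (X.presheaf.stalk (Curv2.bcFst k X K z))).map ((Curv2.bcFst k X K).stalkMap z).hom =
          maximalIdeal ((Curv2.bc k X K).presheaf.stalk z)) ∧
      ((∀ b, ∃ t, b - sMap (Curv2.bcSnd k X K) z t ∈ maximalIdeal ((Curv2.bc k X K).presheaf.stalk z)) →
        IsQuadNode ((Curv2.bc k X K).presheaf.stalk z) →
          Algebra.IsSeparable k (ResidueField (X.presheaf.stalk (Curv2.bcFst k X K z))) ∧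
          (maximalIdeal (X.presheaf.stalk (Curv2.bcFst k X K z))).map ((Curv2.bcFst k X K).stalkMap z).hom =
            maximalIdeal ((Curv2.bc k X K).presheaf.stalk z)) := by
  haveI : LocallyOfFiniteType (Curv2.bcSnd k X K) := MorphismProperty.pullback_snd _ _ ‹_›
  haveI : IsLocallyNoetherian (Curv2.bc k X K) := LocallyOfFiniteType.isLocallyNoetherian (Curv2.bcSnd k X K)
  obtain ⟨c, P₀, hP₀⟩ := GeomField.exists_chart (k := k) (Curv2.bcFst k X K z)
  haveI : Algebra.FiniteType k c.R := by
    have h : LocallyOfFiniteType (c.emb ≫ (X ↘ Spec (CommRingCat.of k))) := inferInstance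
    rw [c.over_eq, HasRingHomProperty.Spec_iff (P := @LocallyOfFiniteType)] at h
    exact RingHom.finiteType_algebraMap.1 h
  obtain ⟨σA, P, hP, hσA, hlocA⟩ := exists_localization c.emb (x := Curv2.bcFst k X K z) ⟨P₀, hP₀⟩
  obtain ⟨σB, Q, hQ, hσB, hlocB⟩ := exists_localization (c.bcEmb K) (x := z)
    (c.exists_bcEmb_eq K P₀ z hP₀.symm)
  letI : Algebra c.R (X.presheaf.stalk (Curv2.bcFst k X K z)) := σA.toAlgebra
  letI : Algebra (c.R ⊗[k] K) ((Curv2.bc k X K).presheaf.stalk z) := σB.toAlgebra
  haveI := hlocA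
  haveI := hlocB
  letI : Algebra (X.presheaf.stalk (Curv2.bcFst k X K z)) ((Curv2.bc k X K).presheaf.stalk z) :=
    ((Curv2.bcFst k X K).stalkMap z).hom.toAlgebra
  haveI : IsLocalHom (algebraMap (X.presheaf.stalk (Curv2.bcFst k X K z)) ((Curv2.bc k X K).presheaf.stalk z)) :=
    inferInstanceAs <| IsLocalHom ((Curv2.bcFst k X K).stalkMap z).hom
  haveI : IsScalarTower k c.R (X.presheaf.stalk (Curv2.bcFst k X K z)) := by
    refine IsScalarTower.of_algebraMap_eq' ?_
    refine (comp_sMap (X ↘ Spec (CommRingCat.of k)) (y := Curv2.bcFst k X K z)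
      (RingHom.id _) (σA.comp (algebraMap k c.R)) ?_)
    rw [CommRingCat.ofHom_id, Spec.map_id, Category.id_comp, ← hσA, Category.assoc, c.over_eq,
      ← Spec.map_comp, ← CommRingCat.ofHom_comp]
  have hc : ∀ r, algebraMap (X.presheaf.stalk (Curv2.bcFst k X K z)) ((Curv2.bc k X K).presheaf.stalk z)
      (algebraMap c.R _ r) = BC.fromR k c.R K ((Curv2.bc k X K).presheaf.stalk z) r := by
    have e : CommRingCat.ofHom σA ≫ (Curv2.bcFst k X K).stalkMap z =
        CommRingCat.ofHom (algebraMap c.R (c.R ⊗[k] K)) ≫ CommRingCat.ofHom σB := by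
      apply Spec.map_injective
      rw [← cancel_mono c.emb, Spec.map_comp, Spec.map_comp,
        Category.assoc, Category.assoc, hσA, Scheme.SpecMap_stalkMap_fromSpecStalk,
        ← c.bcEmb_fst, ← Category.assoc, hσB]
    exact RingHom.congr_fun (congrArg CommRingCat.Hom.hom e)
  have hK : ∀ t, BC.fromK k c.R K ((Curv2.bc k X K).presheaf.stalk z) t = sMap (Curv2.bcSnd k X K) z t := by
    have e : σB.comp (Algebra.TensorProduct.includeRight : K →ₐ[k] c.R ⊗[k] K).toRingHom =
        sMap (Curv2.bcSnd k X K) z := by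
      refine ((RingHom.id_comp _).symm.trans (comp_sMap (Curv2.bcSnd k X K) (RingHom.id _)
        (σB.comp (Algebra.TensorProduct.includeRight : K →ₐ[k] c.R ⊗[k] K).toRingHom) ?_)).symm
      rw [CommRingCat.ofHom_id, Spec.map_id, Category.id_comp, ← hσB, Category.assoc, bcEmb_snd,
        ← Spec.map_comp, ← CommRingCat.ofHom_comp]
    exact RingHom.congr_fun e
  refine ⟨fun hsep => ?_, fun hres hB => ?_⟩
  · haveI := hsep
    exact BC.map_maximalIdeal_of_isSeparable (Q := Q) (P := P) hc
  · have hres' : ∀ b, ∃ t, b - BC.fromK k c.R K ((Curv2.bc k X K).presheaf.stalk z) t ∈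
        maximalIdeal ((Curv2.bc k X K).presheaf.stalk z) := fun b => by
      obtain ⟨t, ht⟩ := hres b
      exact ⟨t, by rwa [hK]⟩
    exact ⟨BC.isSeparable_of_isQuadNode (Q := Q) (P := P) hc hres' hB,
      BC.map_maximalIdeal_of_isQuadNode (Q := Q) hc hres' hB⟩

/-- The node property is insensitive to unramified base change. -/
theorem isQuadNode_bc_iff (z : Curv2.bc k X K)
    (hm : (maximalIdeal (X.presheaf.stalk (Curv2.bcFst k X K z))).map ((Curv2.bcFst k X K).stalkMap z).hom =
      maximalIdeal ((Curv2.bc k X K).presheaf.stalk z)) :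
    IsQuadNode (X.presheaf.stalk (Curv2.bcFst k X K z)) ↔ IsQuadNode ((Curv2.bc k X K).presheaf.stalk z) := by
  haveI : LocallyOfFiniteType (Curv2.bcSnd k X K) := MorphismProperty.pullback_snd _ _ ‹_›
  haveI : IsLocallyNoetherian X := LocallyOfFiniteType.isLocallyNoetherian (X ↘ Spec (CommRingCat.of k))
  haveI : IsLocallyNoetherian (Curv2.bc k X K) := LocallyOfFiniteType.isLocallyNoetherian (Curv2.bcSnd k X K)
  letI : Algebra (X.presheaf.stalk (Curv2.bcFst k X K z)) ((Curv2.bc k X K).presheaf.stalk z) :=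
    ((Curv2.bcFst k X K).stalkMap z).hom.toAlgebra
  haveI : IsLocalHom (algebraMap (X.presheaf.stalk (Curv2.bcFst k X K z)) ((Curv2.bc k X K).presheaf.stalk z)) :=
    inferInstanceAs <| IsLocalHom ((Curv2.bcFst k X K).stalkMap z).hom
  haveI : Module.Flat (X.presheaf.stalk (Curv2.bcFst k X K z)) ((Curv2.bc k X K).presheaf.stalk z) :=
    Flat.stalkMap (Curv2.bcFst k X K) z
  exact isQuadNode_iff_of_flat hm

/-- A point with residue field finite over the base field is closed. -/
theorem isClosed_of_finite {x : X} (h : Module.Finite k (ResidueField (X.presheaf.stalk x))) :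
    IsClosed ({x} : Set X) := by
  haveI : JacobsonSpace X := LocallyOfFiniteType.jacobsonSpace (X ↘ Spec (CommRingCat.of k))
  rw [isClosed_singleton_iff_locallyOfFiniteType]
  haveI : LocallyOfFiniteType (X.fromSpecResidueField x ≫ (X ↘ Spec (CommRingCat.of k))) := by
    rw [GeomConn5.spec_resMap, HasRingHomProperty.Spec_iff (P := @LocallyOfFiniteType)]
    letI := Curv2.resAlgebra k X x
    haveI : Module.Finite k (X.residueField x) := h
    exact RingHom.finiteType_algebraMap.2 (inferInstance : Algebra.FiniteType k (X.residueField x))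
  exact locallyOfFiniteType_of_comp (X.fromSpecResidueField x) (X ↘ Spec (CommRingCat.of k))

theorem isClosed_of_isSeparable {x : X} (h : Algebra.IsSeparable k (ResidueField (X.presheaf.stalk x))) :
    IsClosed ({x} : Set X) := by
  obtain ⟨c, P₀, hP₀⟩ := GeomField.exists_chart (k := k) x
  haveI : Algebra.FiniteType k c.R := by
    have h : LocallyOfFiniteType (c.emb ≫ (X ↘ Spec (CommRingCat.of k))) := inferInstance
    rw [c.over_eq, HasRingHomProperty.Spec_iff (P := @LocallyOfFiniteType)] at h
    exact RingHom.finiteType_algebraMap.1 h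
  subst hP₀
  letI := c.stalkAlg P₀
  haveI := c.isScalarTower_stalk P₀
  haveI := c.isLocalization_stalk P₀
  haveI := BC.essFiniteType_residueField (k := k) (R := c.R) (A := X.presheaf.stalk (c.emb P₀))
    (P := PrimeSpectrum.asIdeal (R := c.R) P₀)
  haveI : Algebra.FormallyUnramified k (ResidueField (X.presheaf.stalk (c.emb P₀))) :=
    Algebra.FormallyUnramified.of_isSeparable k _
  exact isClosed_of_finite (Algebra.FormallyUnramified.finite_of_free (R := k)
    (S := ResidueField (X.presheaf.stalk (c.emb P₀))))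

/-- Points over closed points are closed. -/
theorem isClosed_of_bcFst {z : Curv2.bc k X K} (hx : IsClosed ({Curv2.bcFst k X K z} : Set X)) :
    IsClosed ({z} : Set (Curv2.bc k X K)) := by
  let p := X ↘ Spec (CommRingCat.of k)
  haveI : LocallyOfFiniteType (Curv2.bcSnd k X K) := MorphismProperty.pullback_snd _ _ ‹_›
  haveI : JacobsonSpace X := LocallyOfFiniteType.jacobsonSpace p
  haveI : IsClosedImmersion (X.fromSpecResidueField (Curv2.bcFst k X K z)) :=
    isClosed_singleton_iff_isClosedImmersion.mp hx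
  let ι := X.fromSpecResidueField (Curv2.bcFst k X K z)
  haveI : IsFinite (ι ≫ p) := isFinite_iff_locallyOfFiniteType_of_jacobsonSpace.mpr inferInstance
  let pr := pullback.fst (Curv2.bcFst k X K) ι
  have hpb := (IsPullback.of_hasPullback (Curv2.bcFst k X K) ι).flip.paste_vert
    (IsPullback.of_hasPullback p (Spec.map (CommRingCat.ofHom (algebraMap k K))))
  haveI : IsFinite (pr ≫ Curv2.bcSnd k X K) := MorphismProperty.of_isPullback hpb ‹IsFinite (ι ≫ p)›
  haveI : Finite ↥(pullback (Curv2.bcFst k X K) ι) := by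
    refine Set.finite_univ_iff.mp ?_
    have := (pr ≫ Curv2.bcSnd k X K).finite_preimage_singleton (closedPoint K)
    exact this.subset fun z _ => Subsingleton.elim (α := PrimeSpectrum K) _ _
  haveI : JacobsonSpace ↥(pullback (Curv2.bcFst k X K) ι) :=
    LocallyOfFiniteType.jacobsonSpace (pr ≫ Curv2.bcSnd k X K)
  obtain ⟨w, hw⟩ : z ∈ Set.range pr := by
    rw [Scheme.Pullback.range_fst, Set.mem_preimage, Scheme.range_fromSpecResidueField]
    rfl
  haveI : IsClosedImmersion pr := inferInstance
  have := pr.isClosedEmbedding.isClosedMap _ (isClosed_discrete {w})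
  rwa [Set.image_singleton, hw] at this

section AlgClosed

variable [IsAlgClosed K]

/-- A quadratic node of a geometric base change lies over a separable quadratic node. -/
theorem of_bc_isQuadNode {z : Curv2.bc k X K} (hz : IsClosed ({z} : Set (Curv2.bc k X K)))
    (h : IsQuadNode ((Curv2.bc k X K).presheaf.stalk z)) :
    IsClosed ({Curv2.bcFst k X K z} : Set X) ∧
      Algebra.IsSeparable k (ResidueField (X.presheaf.stalk (Curv2.bcFst k X K z))) ∧
      IsQuadNode (X.presheaf.stalk (Curv2.bcFst k X K z)) := by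
  haveI : LocallyOfFiniteType (Curv2.bcSnd k X K) := MorphismProperty.pullback_snd _ _ ‹_›
  obtain ⟨hsep, hm⟩ := (bc_stalk z).2 (residue_surjective (Curv2.bcSnd k X K) hz) h
  exact ⟨isClosed_of_isSeparable hsep, hsep, (isQuadNode_bc_iff z hm).2 h⟩

/-- Over an algebraically closed field a closed quadratic node is an ordinary double point. -/
theorem isODPAt_of_isQuadNode {Y : Scheme.{u}} (q : Y ⟶ Spec (CommRingCat.of K)) [LocallyOfFiniteType q]
    {y : Y} (hy : IsClosed ({y} : Set Y)) (h : IsQuadNode (Y.presheaf.stalk y)) :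
    CStk17.ODP.IsODPAt q y := by
  haveI : IsLocallyNoetherian Y := LocallyOfFiniteType.isLocallyNoetherian q
  let A := Y.presheaf.stalk y
  letI := sAlg q y
  let C := AdicCompletion (maximalIdeal A) A
  haveI : IsNoetherianRing C := LC.Canon.isNoetherianRing_completion (R := A)
  letI : Algebra K C := ((algebraMap A C).comp (sMap q y)).toAlgebra
  have hres : ∀ w : C, ∃ t : K, w - algebraMap K C t ∈ maximalIdeal C := fun w => by
    obtain ⟨s, hs⟩ := exists_approx w 1
    obtain ⟨t, ht⟩ := residue_surjective q hy s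
    refine ⟨t, ?_⟩
    rw [pow_one] at hs
    have := add_mem hs (algebraMap_mem_max ht)
    rwa [map_sub, sub_add_sub_cancel] at this
  obtain ⟨a, b, c, hd, ⟨E⟩⟩ := exists_equiv_of_isQuadNode hres (isQuadNode_iff_completion.1 h)
  obtain ⟨N⟩ := exists_equiv_node hd
  exact ⟨(E.symm.trans N).toRingEquiv, fun t => (E.symm.trans N).commutes t⟩

omit [IsAlgClosed K] in
/-- An ordinary double point is a quadratic node. -/
theorem isQuadNode_of_isODPAt {Y : Scheme.{u}} {q : Y ⟶ Spec (CommRingCat.of K)} [LocallyOfFiniteType q]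
    {y : Y} (h : CStk17.ODP.IsODPAt q y) : IsQuadNode (Y.presheaf.stalk y) := by
  haveI : IsLocallyNoetherian Y := LocallyOfFiniteType.isLocallyNoetherian q
  letI := sAlg q y
  obtain ⟨e, -⟩ := h
  refine isQuadNode_of_completion_equiv (K := K) (a := 0) (b := 1) (c := 0) (by norm_num)
    (e.trans (Ideal.quotEquivOfEq ?_))
  simp [quadPS, quad]

end AlgClosed

/-- The local criterion for nodes. -/
theorem isNode_iff (x : X) :
    Curv2.IsNode k X x ↔ IsClosed ({x} : Set X) ∧
      Algebra.IsSeparable k (ResidueField (X.presheaf.stalk x)) ∧ IsQuadNode (X.presheaf.stalk x) := by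
  haveI : LocallyOfFiniteType (Curv2.bcSnd k X (AlgebraicClosure k)) := MorphismProperty.pullback_snd _ _ ‹_›
  constructor
  · rintro ⟨hx, xb, rfl, h⟩
    obtain ⟨-, h1, h2⟩ := of_bc_isQuadNode (isClosed_of_bcFst hx)
      (isQuadNode_of_isODPAt (q := Curv2.bcSnd k X (AlgebraicClosure k)) h)
    exact ⟨hx, h1, h2⟩
  · rintro ⟨hx, hsep, hA⟩
    haveI : Surjective (Curv2.bcFst k X (AlgebraicClosure k)) := inferInstance
    obtain ⟨xb, rfl⟩ := (Curv2.bcFst k X (AlgebraicClosure k)).surjective x
    exact ⟨hx, xb, rfl, isODPAt_of_isQuadNode _ (isClosed_of_bcFst hx)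
      ((isQuadNode_bc_iff xb ((bc_stalk xb).1 hsep)).1 hA)⟩

section Etale

variable {Y : Scheme.{u}} (π : Y ⟶ X) [Etale π]

/-- Étale maps preserve and reflect separable quadratic nodes. -/
theorem etale_stalk (y : Y) :
    letI := sAlg (π ≫ (X ↘ Spec (CommRingCat.of k))) y
    (Algebra.IsSeparable k (ResidueField (X.presheaf.stalk (π y))) ↔
        Algebra.IsSeparable k (ResidueField (Y.presheaf.stalk y))) ∧
      (IsQuadNode (X.presheaf.stalk (π y)) ↔ IsQuadNode (Y.presheaf.stalk y)) := by
  haveI : IsLocallyNoetherian X := LocallyOfFiniteType.isLocallyNoetherian (X ↘ Spec (CommRingCat.of k))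
  haveI : IsLocallyNoetherian Y :=
    LocallyOfFiniteType.isLocallyNoetherian (π ≫ (X ↘ Spec (CommRingCat.of k)))
  letI := sAlg (π ≫ (X ↘ Spec (CommRingCat.of k))) y
  letI : Algebra (X.presheaf.stalk (π y)) (Y.presheaf.stalk y) := (π.stalkMap y).hom.toAlgebra
  haveI : IsLocalHom (algebraMap (X.presheaf.stalk (π y)) (Y.presheaf.stalk y)) :=
    inferInstanceAs <| IsLocalHom (π.stalkMap y).hom
  haveI : IsScalarTower k (X.presheaf.stalk (π y)) (Y.presheaf.stalk y) :=
    IsScalarTower.of_algebraMap_eq' (sMap_comp (X ↘ Spec (CommRingCat.of k)) π y).symm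
  haveI : Module.Flat (X.presheaf.stalk (π y)) (Y.presheaf.stalk y) := Flat.stalkMap π y
  haveI : Algebra.EssFiniteType (X.presheaf.stalk (π y)) (Y.presheaf.stalk y) := by
    rw [← RingHom.essFiniteType_algebraMap, RingHom.algebraMap_toAlgebra]
    exact LocallyOfFiniteType.stalkMap π y
  haveI : Algebra.FormallyUnramified (X.presheaf.stalk (π y)) (Y.presheaf.stalk y) := by
    rw [← RingHom.formallyUnramified_algebraMap, RingHom.algebraMap_toAlgebra]
    exact FormallyUnramified.stalkMap π y
  haveI : IsScalarTower k (ResidueField (X.presheaf.stalk (π y))) (ResidueField (Y.presheaf.stalk y)) :=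
    IsScalarTower.of_algebraMap_eq fun t => by
      show residue _ (algebraMap k (Y.presheaf.stalk y) t) = ResidueField.map _ (residue _ (algebraMap k _ t))
      rw [ResidueField.map_residue, ← IsScalarTower.algebraMap_apply]
  refine ⟨⟨fun h => ?_, fun h => ?_⟩, isQuadNode_iff_of_flat Algebra.FormallyUnramified.map_maximalIdeal⟩
  · haveI := h
    exact Algebra.IsSeparable.trans k (ResidueField (X.presheaf.stalk (π y))) (ResidueField (Y.presheaf.stalk y))
  · haveI := h
    exact Algebra.isSeparable_tower_bot_of_isSeparable k (ResidueField (X.presheaf.stalk (π y)))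
      (ResidueField (Y.presheaf.stalk y))

/-- Being a node can be tested on an étale neighbourhood. -/
theorem isNode_etale_iff (y : Y) :
    Curv2.IsNode k X (π y) ↔ CStk17.NodeSch.IsNodeOf (π ≫ (X ↘ Spec (CommRingCat.of k))) y := by
  obtain ⟨h1, h2⟩ := etale_stalk (k := k) π y
  letI : Y.Over (Spec (CommRingCat.of k)) := ⟨π ≫ (X ↘ Spec (CommRingCat.of k))⟩
  haveI : LocallyOfFiniteType (Y ↘ Spec (CommRingCat.of k)) :=
    inferInstanceAs <| LocallyOfFiniteType (π ≫ (X ↘ Spec (CommRingCat.of k)))
  show _ ↔ Curv2.IsNode k Y y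
  rw [isNode_iff, isNode_iff]
  exact ⟨fun ⟨_, hs, hq⟩ => ⟨isClosed_of_isSeparable (h1.1 hs), h1.1 hs, h2.1 hq⟩,
    fun ⟨_, hs, hq⟩ => ⟨isClosed_of_isSeparable (h1.2 hs), h1.2 hs, h2.2 hq⟩⟩

end Etale

/-- The completed normal form of a quadratic node with separable residue field. -/
theorem exists_completion_equiv_of_isQuadNode {A : Type u} [CommRing A] [IsLocalRing A] [IsNoetherianRing A]
    [Algebra k A] [Algebra.IsSeparable k (ResidueField A)] (h : IsQuadNode A) :
    ∃ a b c : ResidueField A, 4 * a * c - b ^ 2 ≠ 0 ∧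
      ∃ e : AdicCompletion (maximalIdeal A) A ≃+*
          (MvPowerSeries (Fin 2) (ResidueField A) ⧸ Ideal.span {quadPS a b c}),
        ∀ t : k, e (algebraMap A _ (algebraMap k A t)) =
          Ideal.Quotient.mk _ (MvPowerSeries.C (algebraMap k (ResidueField A) t)) := by
  let C := AdicCompletion (maximalIdeal A) A
  haveI : IsNoetherianRing C := LC.Canon.isNoetherianRing_completion (R := A)
  letI : Algebra k C := ((algebraMap A C).comp (algebraMap k A)).toAlgebra
  let g : ResidueField A →ₐ[k] ResidueField C :=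
    { ResidueField.map (algebraMap A C) with commutes' := fun t => rfl }
  obtain ⟨ι, hι⟩ := exists_section_of_separable g
  letI : Algebra (ResidueField A) C := ι.toRingHom.toAlgebra
  have hres : ∀ w : C, ∃ t : ResidueField A, w - algebraMap (ResidueField A) C t ∈ maximalIdeal C := fun w => by
    obtain ⟨s, hs⟩ := exists_approx w 1
    refine ⟨residue A s, ?_⟩
    rw [pow_one] at hs
    have hιm : ι (residue A s) - algebraMap A C s ∈ maximalIdeal C := Ideal.Quotient.eq.1 (hι (residue A s))
    have := sub_mem hs hιm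
    rwa [sub_sub_sub_cancel_right] at this
  obtain ⟨a, b, c, hd, ⟨E⟩⟩ := exists_equiv_of_isQuadNode hres (isQuadNode_iff_completion.1 h)
  refine ⟨a, b, c, hd, E.symm.toRingEquiv, fun t => ?_⟩
  have h1 : algebraMap A C (algebraMap k A t) = algebraMap (ResidueField A) C (algebraMap k (ResidueField A) t) :=
    (ι.commutes t).symm
  rw [h1]
  exact E.symm.commutes _

end Groth.Agent.NodeAlg15.Geom
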