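import Groth.Agent.PSLib.Basic
import Groth.Agent.RegUFD.Basic
import Groth.Agent.CplFib6.PS
import Mathlib.RingTheory.Ideal.KrullsHeightTheorem

/-!
# Quadratic singularities in two variables

Formal Morse lemma, and principal-ness of saturated ideals in a two-dimensional factorial local ring.
-/

set_option autoImplicit false
set_option linter.style.haveILetI false

universe u

namespace Groth.Agent.NodeAlg15

open IsLocalRing

/-- The value of a binary quadratic form. -/
def quad {R : Type*} [CommRing R] (a b c x y : R) : R := a * x ^ 2 + b * x * y + c * y ^ 2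

theorem map_quad {R S F : Type*} [CommRing R] [CommRing S] [FunLike F R S] [RingHomClass F R S] (φ : F)
    (a b c x y : R) : φ (quad a b c x y) = quad (φ a) (φ b) (φ c) (φ x) (φ y) := by
  simp [quad]

theorem quad_mem {R : Type*} [CommRing R] (J : Ideal R) (a b c : R) {x y : R} (hx : x ∈ J) (hy : y ∈ J) :
    quad a b c x y ∈ J ^ 2 := by
  have h1 : x * x ∈ J * J := Ideal.mul_mem_mul hx hx
  have h2 : x * y ∈ J * J := Ideal.mul_mem_mul hx hy
  have h3 : y * y ∈ J * J := Ideal.mul_mem_mul hy hy
  rw [pow_two]
  have := add_mem (add_mem (Ideal.mul_mem_left _ a h1) (Ideal.mul_mem_left _ b h2)) (Ideal.mul_mem_left _ c h3)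
  convert this using 1
  simp only [quad]
  ring

theorem exists_pair_combination {R : Type*} [CommRing R] {p q : R} {K : Ideal R} {z : R}
    (hz : z ∈ Ideal.span {p, q} * K) : ∃ s t, s ∈ K ∧ t ∈ K ∧ p * s + q * t = z := by
  rw [show ({p, q} : Set R) = {p} ∪ {q} from rfl, Ideal.span_union, Submodule.sup_mul,
    Submodule.mem_sup] at hz
  obtain ⟨a, ha, b, hb, rfl⟩ := hz
  obtain ⟨s, hs, rfl⟩ := Ideal.mem_span_singleton_mul.1 ha
  obtain ⟨t, ht, rfl⟩ := Ideal.mem_span_singleton_mul.1 hb
  exact ⟨s, t, hs, ht, rfl⟩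

section Morse

variable {C : Type u} [CommRing C] [IsLocalRing C] [IsNoetherianRing C] [IsAdicComplete (maximalIdeal C) C]

/-- Formal Morse lemma: a perturbation of order three of a nondegenerate binary quadratic form in
generators of the maximal ideal is that form in modified generators. -/
theorem morse (a b c : C) (hdisc : IsUnit (4 * a * c - b ^ 2)) (x y : C)
    (hxy : maximalIdeal C = Ideal.span {x, y}) (h : C) (hh : h - quad a b c x y ∈ maximalIdeal C ^ 3) :
    ∃ x' y', x' - x ∈ maximalIdeal C ^ 2 ∧ y' - y ∈ maximalIdeal C ^ 2 ∧ quad a b c x' y' = h := by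
  classical
  set m := maximalIdeal C with hm
  have hx : x ∈ m := hxy ▸ Ideal.subset_span (by simp)
  have hy : y ∈ m := hxy ▸ Ideal.subset_span (by simp)
  let St : ℕ → C × C → Prop := fun n s =>
    s.1 - x ∈ m ^ 2 ∧ s.2 - y ∈ m ^ 2 ∧ h - quad a b c s.1 s.2 ∈ m ^ (n + 3)
  have hnext : ∀ n s, St n s → ∃ s', St (n + 1) s' ∧ s'.1 - s.1 ∈ m ^ (n + 2) ∧ s'.2 - s.2 ∈ m ^ (n + 2) := by
    rintro n ⟨p, q⟩ ⟨hp, hq, hz⟩
    have hgen : m = Ideal.span {2 * a * p + b * q, b * p + 2 * c * q} := by
      set L := Ideal.span {2 * a * p + b * q, b * p + 2 * c * q}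
      have hpm : p ∈ m := by simpa using add_mem (Ideal.pow_le_self (by omega) hp) hx
      have hqm : q ∈ m := by simpa using add_mem (Ideal.pow_le_self (by omega) hq) hy
      have h1 : L ≤ m := Ideal.span_le.2 (by
        simp [Set.insert_subset_iff, add_mem, Ideal.mul_mem_left _ _ hpm, Ideal.mul_mem_left _ _ hqm])
      refine le_antisymm ?_ h1
      refine Submodule.le_of_le_smul_of_le_jacobson_bot (IsNoetherian.noetherian _)
        (IsLocalRing.maximalIdeal_le_jacobson _) ?_
      rw [smul_eq_mul, ← pow_two]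
      have hL1 : 2 * a * p + b * q ∈ L := Ideal.subset_span (by simp)
      have hL2 : b * p + 2 * c * q ∈ L := Ideal.subset_span (by simp)
      obtain ⟨e, he⟩ := hdisc.exists_left_inv
      have hpL : p ∈ L := by
        have := Ideal.mul_mem_left L e
          (sub_mem (Ideal.mul_mem_left L (2 * c) hL1) (Ideal.mul_mem_left L b hL2))
        convert this using 1
        linear_combination (-p) * he
      have hqL : q ∈ L := by
        have := Ideal.mul_mem_left L e
          (sub_mem (Ideal.mul_mem_left L (2 * a) hL2) (Ideal.mul_mem_left L b hL1))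
        convert this using 1
        linear_combination (-q) * he
      conv_lhs => rw [hxy]
      rw [Ideal.span_le, Set.insert_subset_iff, Set.singleton_subset_iff]
      constructor
      · rw [show x = p - (p - x) by ring]
        exact sub_mem (Ideal.mem_sup_left hpL) (Ideal.mem_sup_right hp)
      · rw [show y = q - (q - y) by ring]
        exact sub_mem (Ideal.mem_sup_left hqL) (Ideal.mem_sup_right hq)
    have hz' : h - quad a b c p q ∈ Ideal.span {2 * a * p + b * q, b * p + 2 * c * q} * m ^ (n + 2) := by
      rw [← hgen, ← pow_succ']; exact hz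
    obtain ⟨s, t, hs, ht, hst⟩ := exists_pair_combination hz'
    refine ⟨(p + s, q + t), ⟨?_, ?_, ?_⟩, by simpa using hs, by simpa using ht⟩
    · show p + s - x ∈ _
      rw [add_sub_right_comm]
      exact add_mem hp (Ideal.pow_le_pow_right (by omega) hs)
    · show q + t - y ∈ _
      rw [add_sub_right_comm]
      exact add_mem hq (Ideal.pow_le_pow_right (by omega) ht)
    · show h - quad a b c (p + s) (q + t) ∈ _
      have := Ideal.pow_le_pow_right (show n + 1 + 3 ≤ (n + 2) * 2 by omega) (by
        rw [pow_mul]; exact quad_mem (m ^ (n + 2)) a b c hs ht : quad a b c s t ∈ m ^ ((n + 2) * 2))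
      have := neg_mem this
      convert this using 1
      simp only [quad] at hst ⊢
      linear_combination -hst
  choose! next hN1 hN2 hN3 using hnext
  let s : ℕ → C × C := fun n => Nat.rec (x, y) (fun n p => next n p) n
  have hs : ∀ n, St n (s n) := by
    intro n
    induction n with
    | zero => exact ⟨by simp [s], by simp [s], hh⟩
    | succ n ih => exact hN1 n (s n) ih
  have lim : ∀ (f : ℕ → C), (∀ n, f (n + 1) - f n ∈ m ^ (n + 2)) → ∃ L, ∀ n, f n - L ∈ m ^ n := by
    intro f hf
    have hc : ∀ {i j}, i ≤ j → f i ≡ f j [SMOD (m ^ i • ⊤ : Submodule C C)] := by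
      intro i j hij
      rw [SModEq.sub_mem, smul_eq_mul, Ideal.mul_top]
      induction hij with
      | refl => simp
      | @step l hml ih =>
        rw [← sub_add_sub_cancel (f i) (f l) (f (l + 1))]
        refine add_mem ih ?_
        rw [← neg_sub]
        exact neg_mem (Ideal.pow_le_pow_right (le_trans hml (Nat.le_add_right l 2)) (hf l))
    obtain ⟨L, hL⟩ := IsPrecomplete.prec' (I := m) f hc
    exact ⟨L, fun n => by simpa [SModEq.sub_mem, smul_eq_mul] using hL n⟩
  obtain ⟨x', hx'⟩ := lim (fun n => (s n).1) fun n => hN2 n _ (hs n)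
  obtain ⟨y', hy'⟩ := lim (fun n => (s n).2) fun n => hN3 n _ (hs n)
  refine ⟨x', y', ?_, ?_, ?_⟩
  · simpa using sub_mem (hs 2).1 (hx' 2)
  · simpa using sub_mem (hs 2).2.1 (hy' 2)
  · rw [← sub_eq_zero]
    refine IsHausdorff.haus' (I := m) _ fun n => ?_
    rw [SModEq.zero, smul_eq_mul, Ideal.mul_top]
    have e1 := Ideal.pow_le_pow_right (show n ≤ n + 3 by omega) (hs n).2.2
    have e2 : quad a b c (s n).1 (s n).2 - quad a b c x' y' ∈ m ^ n := by
      have := add_mem (add_mem (Ideal.mul_mem_left _ (a * ((s n).1 + x') + b * (s n).2) (hx' n))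
        (Ideal.mul_mem_left _ (b * x') (hy' n))) (Ideal.mul_mem_left _ (c * ((s n).2 + y')) (hy' n))
      convert this using 1
      simp only [quad]
      ring
    have := neg_mem (add_mem e1 e2)
    convert this using 1
    ring

end Morse

section Principal

/-- In a two-dimensional factorial local ring, an ideal saturated with respect to a nonunit is principal. -/
theorem exists_span_eq_of_saturated {S : Type u} [CommRing S] [IsDomain S] [IsLocalRing S]
    [UniqueFactorizationMonoid S] [IsNoetherianRing S] (hdim : (maximalIdeal S).spanFinrank ≤ 2)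
    (I : Ideal S) (r : S) (hr : r ∈ maximalIdeal S) (hsat : ∀ s, r * s ∈ I → s ∈ I) (f : S)
    (hfI : f ∈ I) (hf : f ≠ 0) : ∃ d, d ∣ f ∧ I = Ideal.span {d} := by
  classical
  induction f using (wellFounded_dvdNotUnit (α := S)).induction generalizing I with
  | _ f ih =>
    by_cases hex : ∃ p : S, Prime p ∧ p ∣ f ∧ I ≤ Ideal.span {p}
    · obtain ⟨p, hp, ⟨q, rfl⟩, hIp⟩ := hex
      let J : Ideal S := Submodule.comap (LinearMap.mulLeft S p) I
      have hJ : ∀ s, s ∈ J ↔ p * s ∈ I := fun _ => Iff.rfl
      have hq0 : q ≠ 0 := fun h => hf (by rw [h, mul_zero])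
      obtain ⟨d, hd, hJd⟩ := ih q ⟨hq0, p, hp.not_isUnit, mul_comm p q⟩ J
        (fun s hs => (hJ _).2 (hsat _ (by rw [hJ] at hs; rwa [mul_left_comm]))) hfI hq0
      refine ⟨p * d, mul_dvd_mul_left _ hd, le_antisymm (fun z hz => ?_) ?_⟩
      · obtain ⟨w, rfl⟩ := Ideal.mem_span_singleton.1 (hIp hz)
        have : w ∈ J := hz
        rw [hJd, Ideal.mem_span_singleton] at this
        rw [Ideal.mem_span_singleton]
        exact mul_dvd_mul_left _ this
      · rw [Ideal.span_le, Set.singleton_subset_iff, SetLike.mem_coe, ← hJ, hJd]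
        exact Ideal.mem_span_singleton_self d
    · push Not at hex
      refine ⟨1, one_dvd _, ?_⟩
      rw [Ideal.span_singleton_one]
      by_contra hne
      have hrad : maximalIdeal S ≤ I.radical := by
        rw [Ideal.radical_eq_sInf]
        refine le_sInf fun P hP => ?_
        haveI : P.IsPrime := hP.2
        obtain ⟨p, hpP, hp⟩ : ∃ p ∈ P, Prime p ∧ p ∣ f := by
          obtain ⟨fs, hfs, hass⟩ := UniqueFactorizationMonoid.exists_prime_factors (f) hf
          have : fs.prod ∈ P := by
            obtain ⟨e, he⟩ := hass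
            rw [← he] at hfI
            exact (Ideal.mul_unit_mem_iff_mem _ e.isUnit).1 (hP.1 hfI)
          obtain ⟨p, hp, hpP⟩ := (Ideal.IsPrime.multiset_prod_mem_iff_exists_mem ‹_› fs).1 this
          exact ⟨p, hpP, hfs p hp, (Multiset.dvd_prod hp).trans hass.dvd⟩
        haveI : (Ideal.span {p}).IsPrime := (Ideal.span_singleton_prime hp.1.ne_zero).2 hp.1
        have hlt : Ideal.span {p} < P :=
          lt_of_le_of_ne (Ideal.span_le.2 (Set.singleton_subset_iff.2 hpP)) fun he =>
            hex p hp.1 hp.2 (he ▸ hP.1)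
        by_contra hPm
        have hPlt : P < maximalIdeal S :=
          lt_of_le_of_ne (le_maximalIdeal (Ideal.IsPrime.ne_top ‹_›)) fun he => hPm he.ge
        have h0 : (⊥ : Ideal S) < Ideal.span {p} :=
          bot_lt_iff_ne_bot.2 (by simpa using hp.1.ne_zero)
        haveI : (⊥ : Ideal S).IsPrime := Ideal.isPrime_bot
        have h1 := Ideal.height_add_one_le_of_lt_of_isPrime h0
        have h2 := Ideal.height_add_one_le_of_lt_of_isPrime hlt
        have h3 := Ideal.height_add_one_le_of_lt_of_isPrime hPlt
        have h4 := Ideal.height_le_spanFinrank (maximalIdeal S) (maximalIdeal.isMaximal S).ne_top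
        have h5 : (3 : ℕ∞) ≤ ((2 : ℕ) : ℕ∞) := by
          refine le_trans ?_ (h4.trans (by exact_mod_cast hdim))
          refine le_trans ?_ h3
          refine le_trans ?_ (add_le_add h2 le_rfl)
          refine le_trans ?_ (add_le_add (add_le_add h1 le_rfl) le_rfl)
          rw [add_assoc, add_assoc]
          exact le_add_self.trans' (by norm_num)
        exact absurd h5 (by norm_num)
      obtain ⟨N, hN⟩ := hrad hr
      have : ∀ i, r ^ i ∈ I → (1 : S) ∈ I := by
        intro i
        induction i with
        | zero => simp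
        | succ i ih' => exact fun hi => ih' (hsat _ (by rwa [← pow_succ']))
      exact hne ((Ideal.eq_top_iff_one _).2 (this N hN))

end Principal

end Groth.Agent.NodeAlg15
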