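import Groth.Agent.NodeAlg15.Morse

/-!
# Binary quadratic singularities as quotients of power series in two variables
-/

set_option autoImplicit false
set_option linter.style.haveILetI false

universe u

namespace Groth.Agent.NodeAlg15

open IsLocalRing

variable {K : Type u} [Field K]

/-- The quadratic form as a power series. -/
noncomputable def quadPS (a b c : K) : MvPowerSeries (Fin 2) K :=
  quad (MvPowerSeries.C a) (MvPowerSeries.C b) (MvPowerSeries.C c) (MvPowerSeries.X 0) (MvPowerSeries.X 1)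

theorem vars_eq_span : PSLib.vars 2 K = Ideal.span {MvPowerSeries.X 0, MvPowerSeries.X 1} := by
  rw [PSLib.vars]
  congr 1
  ext x
  simp [Fin.exists_fin_two, eq_comm]

theorem maximalIdeal_eq_vars : maximalIdeal (MvPowerSeries (Fin 2) K) = PSLib.vars 2 K := by
  ext f
  rw [mem_maximalIdeal, mem_nonunits_iff, MvPowerSeries.isUnit_iff_constantCoeff, PSLib.mem_vars_iff,
    isUnit_iff_ne_zero, ne_eq, not_not]

instance isAdicComplete_maximalIdeal_ps :
    IsAdicComplete (maximalIdeal (MvPowerSeries (Fin 2) K)) (MvPowerSeries (Fin 2) K) := by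
  rw [maximalIdeal_eq_vars]
  exact inferInstanceAs (IsAdicComplete (Ideal.span _) _)

theorem spanFinrank_le : (maximalIdeal (MvPowerSeries (Fin 2) K)).spanFinrank ≤ 2 := by
  classical
  rw [maximalIdeal_eq_vars, vars_eq_span]
  refine (Submodule.spanFinrank_span_le_ncard_of_finite (Set.toFinite _)).trans ?_
  exact (Set.ncard_insert_le _ _).trans (by simp)

theorem ufd_ps : IsDomain (MvPowerSeries (Fin 2) K) ∧ UniqueFactorizationMonoid (MvPowerSeries (Fin 2) K) := by
  haveI := CplFib6.isRegularLocalRing_mvPowerSeries K 2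
  exact RegUFD.ufd _

theorem coeff_linear (A B : MvPowerSeries (Fin 2) K)
    (h : A * MvPowerSeries.X 0 + B * MvPowerSeries.X 1 ∈ PSLib.vars 2 K ^ 2) :
    MvPowerSeries.constantCoeff A = 0 ∧ MvPowerSeries.constantCoeff B = 0 := by
  classical
  have h1 := PSLib.coeff_eq_zero_of_mem_pow 2 _ h
  constructor
  · have := h1 (Finsupp.single 0 1) (by simp)
    rw [map_add, MvPowerSeries.X, MvPowerSeries.X, MvPowerSeries.coeff_mul_monomial,
      MvPowerSeries.coeff_mul_monomial, if_pos le_rfl, if_neg (fun hh => by simpa using hh 1)] at this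
    simpa using this
  · have := h1 (Finsupp.single 1 1) (by simp)
    rw [map_add, MvPowerSeries.X, MvPowerSeries.X, MvPowerSeries.coeff_mul_monomial,
      MvPowerSeries.coeff_mul_monomial, if_neg (fun hh => by simpa using hh 0), if_pos le_rfl] at this
    simpa using this

theorem coeff_quad (A B C : MvPowerSeries (Fin 2) K)
    (h : quad A B C (MvPowerSeries.X 0) (MvPowerSeries.X 1) ∈ PSLib.vars 2 K ^ 3) :
    MvPowerSeries.constantCoeff A = 0 ∧ MvPowerSeries.constantCoeff B = 0 ∧ MvPowerSeries.constantCoeff C = 0 := by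
  classical
  have h1 := PSLib.coeff_eq_zero_of_mem_pow 3 _ h
  have e : quad A B C (MvPowerSeries.X 0) (MvPowerSeries.X 1) =
      A * MvPowerSeries.monomial (Finsupp.single (0 : Fin 2) 1 + Finsupp.single 0 1) 1 +
      B * MvPowerSeries.monomial (Finsupp.single (0 : Fin 2) 1 + Finsupp.single 1 1) 1 +
      C * MvPowerSeries.monomial (Finsupp.single (1 : Fin 2) 1 + Finsupp.single 1 1) 1 := by
    simp only [quad, MvPowerSeries.X, pow_two, mul_assoc, MvPowerSeries.monomial_mul_monomial, mul_one]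
  refine ⟨?_, ?_, ?_⟩
  · have := h1 (Finsupp.single (0 : Fin 2) 1 + Finsupp.single 0 1) (by simp)
    rw [e, map_add, map_add, MvPowerSeries.coeff_mul_monomial, MvPowerSeries.coeff_mul_monomial,
      MvPowerSeries.coeff_mul_monomial, if_pos le_rfl, if_neg (fun hh => by simpa using hh 1),
      if_neg (fun hh => by simpa using hh 1)] at this
    simpa using this
  · have := h1 (Finsupp.single (0 : Fin 2) 1 + Finsupp.single 1 1) (by simp)
    rw [e, map_add, map_add, MvPowerSeries.coeff_mul_monomial, MvPowerSeries.coeff_mul_monomial,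
      MvPowerSeries.coeff_mul_monomial, if_neg (fun hh => by simpa using hh 0), if_pos le_rfl,
      if_neg (fun hh => by simpa using hh 1)] at this
    simpa using this
  · have := h1 (Finsupp.single (1 : Fin 2) 1 + Finsupp.single 1 1) (by simp)
    rw [e, map_add, map_add, MvPowerSeries.coeff_mul_monomial, MvPowerSeries.coeff_mul_monomial,
      MvPowerSeries.coeff_mul_monomial, if_neg (fun hh => by simpa using hh 0),
      if_neg (fun hh => by simpa using hh 0), if_pos le_rfl] at this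
    simpa using this

theorem quadPS_mem (a b c : K) : quadPS a b c ∈ PSLib.vars 2 K ^ 2 :=
  quad_mem _ _ _ _ (Ideal.subset_span ⟨0, rfl⟩) (Ideal.subset_span ⟨1, rfl⟩)

theorem not_mem_of_sub_mem {a b c : K} (hd : 4 * a * c - b ^ 2 ≠ 0) {f : MvPowerSeries (Fin 2) K}
    (hf : f - quadPS a b c ∈ PSLib.vars 2 K ^ 3) : f ∉ PSLib.vars 2 K ^ 3 := fun h => by
  have := sub_mem h hf
  rw [sub_sub_cancel] at this
  obtain ⟨ha, hb, hc⟩ := coeff_quad _ _ _ this
  simp only [MvPowerSeries.constantCoeff_C] at ha hb hc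
  exact hd (by rw [ha, hb, hc]; ring)

theorem squarefree_quadPS {a b c : K} (hd : 4 * a * c - b ^ 2 ≠ 0) : Squarefree (quadPS a b c) := by
  rintro p ⟨e, he⟩
  by_contra hp
  have hpm : p ∈ PSLib.vars 2 K := by
    rw [← maximalIdeal_eq_vars]; exact (mem_maximalIdeal _).2 hp
  rw [vars_eq_span, Ideal.mem_span_pair] at hpm
  obtain ⟨p0, p1, rfl⟩ := hpm
  have h0 : quad (MvPowerSeries.C a - e * p0 ^ 2) (MvPowerSeries.C b - 2 * e * p0 * p1)
      (MvPowerSeries.C c - e * p1 ^ 2) (MvPowerSeries.X 0) (MvPowerSeries.X 1) = 0 := by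
    have he' := sub_eq_zero.2 he
    simp only [quadPS, quad] at he' ⊢
    linear_combination he'
  obtain ⟨ha, hb, hc⟩ := coeff_quad _ _ _ (h0 ▸ zero_mem _)
  simp only [map_sub, map_mul, map_pow, map_ofNat, MvPowerSeries.constantCoeff_C] at ha hb hc
  refine hd ?_
  rw [sub_eq_zero.1 ha, sub_eq_zero.1 hb, sub_eq_zero.1 hc]
  ring

theorem quadPS_ne_zero {a b c : K} (hd : 4 * a * c - b ^ 2 ≠ 0) : quadPS a b c ≠ 0 := fun h =>
  not_mem_of_sub_mem hd (f := 0) (by rw [h]; simp) (zero_mem _)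

theorem isReduced_quotient {a b c : K} (hd : 4 * a * c - b ^ 2 ≠ 0) :
    _root_.IsReduced (MvPowerSeries (Fin 2) K ⧸ Ideal.span {quadPS a b c}) := by
  obtain ⟨h1, h2⟩ := ufd_ps (K := K)
  rw [← Ideal.isRadical_iff_quotient_reduced]
  exact (isRadical_iff_span_singleton).1 (squarefree_quadPS hd).isRadical

theorem spanFinrank_quotient {a b c : K} (hd : 4 * a * c - b ^ 2 ≠ 0)
    [IsLocalRing (MvPowerSeries (Fin 2) K ⧸ Ideal.span {quadPS a b c})] :
    (maximalIdeal (MvPowerSeries (Fin 2) K ⧸ Ideal.span {quadPS a b c})).spanFinrank = 2 := by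
  set π := Ideal.Quotient.mk (Ideal.span {quadPS a b c})
  have hm : maximalIdeal (MvPowerSeries (Fin 2) K ⧸ Ideal.span {quadPS a b c}) =
      Ideal.span {π (MvPowerSeries.X 0), π (MvPowerSeries.X 1)} := by
    rw [← map_maximalIdeal_of_surjective π Ideal.Quotient.mk_surjective, maximalIdeal_eq_vars, vars_eq_span,
      Ideal.map_span, Set.image_pair]
  refine le_antisymm ?_ ?_
  · rw [hm]
    refine (Submodule.spanFinrank_span_le_ncard_of_finite (Set.toFinite _)).trans ?_
    exact (Set.ncard_insert_le _ _).trans (by simp)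
  by_contra hlt
  haveI : (maximalIdeal (MvPowerSeries (Fin 2) K ⧸ Ideal.span {quadPS a b c})).IsPrincipal :=
    by
      rcases Nat.eq_zero_or_pos (maximalIdeal
        (MvPowerSeries (Fin 2) K ⧸ Ideal.span {quadPS a b c})).spanFinrank with h | h
      · rw [Submodule.spanFinrank_eq_zero_iff_eq_bot (IsNoetherian.noetherian _)] at h
        rw [h]; infer_instance
      · exact ((Submodule.spanFinrank_eq_one_iff _).1 (by omega)).1
  obtain ⟨z', hz'⟩ := Submodule.IsPrincipal.principal (S := maximalIdeal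
    (MvPowerSeries (Fin 2) K ⧸ Ideal.span {quadPS a b c}))
  obtain ⟨z, rfl⟩ := Ideal.Quotient.mk_surjective z'
  have hzm : z ∈ PSLib.vars 2 K := by
    have : π z ∈ maximalIdeal _ := hz' ▸ Ideal.mem_span_singleton_self _
    rw [← map_maximalIdeal_of_surjective π Ideal.Quotient.mk_surjective, maximalIdeal_eq_vars,
      Ideal.mem_map_iff_of_surjective π Ideal.Quotient.mk_surjective] at this
    obtain ⟨w, hw, hwz⟩ := this
    rw [← sub_sub_cancel w z]
    obtain ⟨t, ht⟩ := Ideal.mem_span_singleton.1 (Ideal.Quotient.eq.1 hwz)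
    exact sub_mem hw (ht ▸ Ideal.mul_mem_right _ _ (Ideal.pow_le_self two_ne_zero (quadPS_mem a b c)))
  rw [vars_eq_span, Ideal.mem_span_pair] at hzm
  obtain ⟨z0, z1, hz01⟩ := hzm
  have key : ∀ i, ∃ s, MvPowerSeries.X i - s * z ∈ PSLib.vars 2 K ^ 2 := fun i => by
    have : π (MvPowerSeries.X i) ∈ maximalIdeal _ := hm ▸ Ideal.subset_span (by fin_cases i <;> simp)
    rw [hz'] at this
    obtain ⟨s', hs⟩ := Ideal.mem_span_singleton'.1 this
    obtain ⟨s, rfl⟩ := Ideal.Quotient.mk_surjective s'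
    refine ⟨s, ?_⟩
    obtain ⟨t, ht⟩ := Ideal.mem_span_singleton.1 (Ideal.Quotient.eq.1 ((map_mul π s z).trans hs).symm)
    exact ht ▸ Ideal.mul_mem_right _ _ (quadPS_mem a b c)
  obtain ⟨s, hs⟩ := key 0
  obtain ⟨t, ht⟩ := key 1
  obtain ⟨h00, h01⟩ := coeff_linear (1 - s * z0) (-(s * z1)) (by convert hs using 1; rw [← hz01]; ring)
  obtain ⟨h10, h11⟩ := coeff_linear (-(t * z0)) (1 - t * z1) (by convert ht using 1; rw [← hz01]; ring)
  simp only [map_sub, map_neg, map_mul, map_one, neg_eq_zero, sub_eq_zero] at h00 h01 h10 h11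
  rcases mul_eq_zero.1 h01 with h | h
  · rw [h, zero_mul] at h00; exact one_ne_zero h00
  · rw [h, mul_zero] at h11; exact one_ne_zero h11

/-- Changing a nondegenerate quadratic form by terms of order three does not change the singularity. -/
theorem exists_equiv_of_sub_mem {a b c : K} (hd : 4 * a * c - b ^ 2 ≠ 0) {f : MvPowerSeries (Fin 2) K}
    (hf : f - quadPS a b c ∈ PSLib.vars 2 K ^ 3) :
    Nonempty ((MvPowerSeries (Fin 2) K ⧸ Ideal.span {quadPS a b c}) ≃ₐ[K]
      MvPowerSeries (Fin 2) K ⧸ Ideal.span {f}) := by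
  have hu : IsUnit (4 * MvPowerSeries.C a * MvPowerSeries.C c - MvPowerSeries.C b ^ 2 :
      MvPowerSeries (Fin 2) K) := by
    rw [MvPowerSeries.isUnit_iff_constantCoeff]
    simpa [isUnit_iff_ne_zero, map_ofNat] using hd
  obtain ⟨x', y', hx, hy, hq⟩ := morse (C := MvPowerSeries (Fin 2) K) _ _ _ hu (MvPowerSeries.X 0)
    (MvPowerSeries.X 1) (maximalIdeal_eq_vars.trans vars_eq_span) f (maximalIdeal_eq_vars (K := K) ▸ hf)
  rw [maximalIdeal_eq_vars] at hx hy
  have hX : ∀ i : Fin 2, (MvPowerSeries.X i : MvPowerSeries (Fin 2) K) ∈ PSLib.vars 2 K :=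
    fun i => Ideal.subset_span ⟨i, rfl⟩
  have hxm : x' ∈ PSLib.vars 2 K := by simpa using add_mem (Ideal.pow_le_self two_ne_zero hx) (hX 0)
  have hym : y' ∈ PSLib.vars 2 K := by simpa using add_mem (Ideal.pow_le_self two_ne_zero hy) (hX 1)
  obtain ⟨ψ, hψ⟩ := PSLib.exists_algHom (R := K) (A := MvPowerSeries (Fin 2) K) (PSLib.vars 2 K) ![x', y'] (by
    intro i; fin_cases i <;> simp [hxm, hym])
  have h0 : ψ (MvPowerSeries.X 0) = x' := by simpa using hψ 0
  have h1 : ψ (MvPowerSeries.X 1) = y' := by simpa using hψ 1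
  have hbij := PSLib.bijective_of_first_order ψ (fun i => by fin_cases i <;> simp [h0, h1, hxm, hym]) fun j => by
    obtain rfl | rfl : j = 0 ∨ j = 1 := by fin_cases j <;> simp
    · rw [show (MvPowerSeries.X (0 : Fin 2) : MvPowerSeries (Fin 2) K) = ψ (MvPowerSeries.X 0) - (x' - MvPowerSeries.X 0)
        by rw [h0]; ring]
      exact sub_mem (Ideal.mem_sup_left (Ideal.subset_span ⟨0, rfl⟩)) (Ideal.mem_sup_right hx)
    · rw [show (MvPowerSeries.X (1 : Fin 2) : MvPowerSeries (Fin 2) K) = ψ (MvPowerSeries.X 1) - (y' - MvPowerSeries.X 1)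
        by rw [h1]; ring]
      exact sub_mem (Ideal.mem_sup_left (Ideal.subset_span ⟨1, rfl⟩)) (Ideal.mem_sup_right hy)
  let Ψ := AlgEquiv.ofBijective ψ hbij
  have hψq : Ψ (quadPS a b c) = f := by
    show ψ _ = _
    rw [quadPS, map_quad, h0, h1, ← hq]
    simp only [show ∀ t : K, ψ (MvPowerSeries.C t) = MvPowerSeries.C t from ψ.commutes]
  exact ⟨Ideal.quotientEquivAlg _ _ Ψ (by rw [Ideal.map_span, Set.image_singleton]; exact congrArg _ (congrArg _ hψq.symm))⟩

/-- Recognition of a quadratic singularity. -/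
theorem exists_equiv_quad {C : Type u} [CommRing C] [IsLocalRing C] [IsNoetherianRing C]
    [IsAdicComplete (maximalIdeal C) C] [Algebra K C]
    (hres : ∀ z : C, ∃ t : K, z - algebraMap K C t ∈ maximalIdeal C)
    (x y : C) (hgen : maximalIdeal C = Ideal.span {x, y}) (hrank : (maximalIdeal C).spanFinrank = 2)
    (r : C) (hr : r ∈ maximalIdeal C) (hreg : ∀ z, r * z = 0 → z = 0)
    {a b c : K} (hd : 4 * a * c - b ^ 2 ≠ 0)
    (hq : quad (algebraMap K C a) (algebraMap K C b) (algebraMap K C c) x y ∈ maximalIdeal C ^ 3) :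
    Nonempty ((MvPowerSeries (Fin 2) K ⧸ Ideal.span {quadPS a b c}) ≃ₐ[K] C) := by
  obtain ⟨hdom, hufd⟩ := ufd_ps (K := K)
  have hx : x ∈ maximalIdeal C := hgen ▸ Ideal.subset_span (by simp)
  have hy : y ∈ maximalIdeal C := hgen ▸ Ideal.subset_span (by simp)
  obtain ⟨φ, hφ⟩ := PSLib.exists_algHom (R := K) (maximalIdeal C) ![x, y] (by
    intro i; fin_cases i <;> simp [hx, hy])
  have h0 : φ (MvPowerSeries.X 0) = x := by simpa using hφ 0
  have h1 : φ (MvPowerSeries.X 1) = y := by simpa using hφ 1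
  have hvm : (PSLib.vars 2 K).map φ.toRingHom = maximalIdeal C := by
    rw [hgen, vars_eq_span, Ideal.map_span, Set.image_pair]
    simp [h0, h1]
  have hs : Function.Surjective φ.toRingHom :=
    PSLib.surjective_of_first_order φ.toRingHom (I := PSLib.vars 2 K) (J := maximalIdeal C)
      (IsNoetherian.noetherian _) (maximalIdeal_le_jacobson _) hvm.le (le_sup_of_le_left hvm.ge) fun z => by
        obtain ⟨t, ht⟩ := hres z
        refine ⟨algebraMap K _ t, ?_⟩
        show z - φ (algebraMap K _ t) ∈ _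
        rwa [φ.commutes]
  have hqφ : φ (quadPS a b c) = quad (algebraMap K C a) (algebraMap K C b) (algebraMap K C c) x y := by
    rw [quadPS, map_quad, h0, h1]
    simp only [show ∀ t : K, φ (MvPowerSeries.C t) = algebraMap K C t from φ.commutes]
  rw [← hqφ, ← hvm, ← Ideal.map_pow] at hq
  obtain ⟨g, hg, hgq⟩ := (Ideal.mem_map_iff_of_surjective φ.toRingHom hs).1 hq
  let f := quadPS a b c - g
  have hf3 : f - quadPS a b c ∈ PSLib.vars 2 K ^ 3 := by simpa [f] using neg_mem hg
  have hfker : f ∈ RingHom.ker φ.toRingHom := by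
    show φ (quadPS a b c - g) = 0
    rw [map_sub, show φ g = φ (quadPS a b c) from hgq, sub_self]
  have hf0 : f ≠ 0 := fun h => not_mem_of_sub_mem hd hf3 (h ▸ zero_mem _)
  obtain ⟨r', hr'⟩ := hs r
  have hr'm : r' ∈ maximalIdeal (MvPowerSeries (Fin 2) K) := by
    rw [mem_maximalIdeal, mem_nonunits_iff]
    intro hu
    exact (mem_maximalIdeal _).1 (hr' ▸ hr) (hu.map φ.toRingHom)
  have hsat : ∀ z : MvPowerSeries (Fin 2) K,
      r' * z ∈ RingHom.ker φ.toRingHom → z ∈ RingHom.ker φ.toRingHom := fun z hz => by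
    rw [RingHom.mem_ker] at hz ⊢
    refine hreg _ ?_
    rw [← hr']
    exact (RingHom.map_mul _ _ _).symm.trans hz
  have hr'm' : r' ∈ maximalIdeal (MvPowerSeries (Fin 2) K) := hr'm
  obtain ⟨d, hdvd, hker⟩ :=
    @exists_span_eq_of_saturated (MvPowerSeries (Fin 2) K) _ hdom _ hufd _ spanFinrank_le
      (RingHom.ker φ.toRingHom) r' hr'm' hsat f hfker hf0
  obtain ⟨e, hde⟩ := hdvd
  have hd2 : d ∈ PSLib.vars 2 K ^ 2 := by
    have hdk : φ d = 0 := show d ∈ RingHom.ker φ.toRingHom from hker ▸ Ideal.mem_span_singleton_self d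
    have hdm : d ∈ PSLib.vars 2 K := by
      rw [← maximalIdeal_eq_vars, mem_maximalIdeal, mem_nonunits_iff]
      intro hu
      have := hu.map φ
      rw [hdk] at this
      exact not_isUnit_zero this
    rw [vars_eq_span, Ideal.mem_span_pair] at hdm
    obtain ⟨d0, d1, rfl⟩ := hdm
    rw [map_add, map_mul, map_mul, h0, h1] at hdk
    have hsmall : ∀ z : C, maximalIdeal C = Ideal.span {z} → False := fun z hz => by
      have : (maximalIdeal C).spanFinrank ≤ 1 :=
        hz ▸ (Submodule.spanFinrank_span_le_ncard_of_finite (Set.toFinite _)).trans (by simp)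
      omega
    rw [vars_eq_span, pow_two]
    have hX : ∀ i : Fin 2, (MvPowerSeries.X i : MvPowerSeries (Fin 2) K) ∈
        Ideal.span {MvPowerSeries.X 0, MvPowerSeries.X 1} := fun i =>
      Ideal.subset_span (by fin_cases i <;> simp)
    refine add_mem (Ideal.mul_mem_mul ?_ (hX 0)) (Ideal.mul_mem_mul ?_ (hX 1))
    · rw [← vars_eq_span, PSLib.mem_vars_iff]
      by_contra hne
      obtain ⟨w, hw⟩ := ((MvPowerSeries.isUnit_iff_constantCoeff.2 (Ne.isUnit hne)).map φ).exists_left_inv
      refine hsmall y (le_antisymm ?_ (Ideal.span_le.2 (Set.singleton_subset_iff.2 hy)))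
      rw [hgen, Ideal.span_le, Set.insert_subset_iff, Set.singleton_subset_iff]
      refine ⟨Ideal.mem_span_singleton'.2 ⟨-(w * φ d1), ?_⟩, Ideal.mem_span_singleton_self y⟩
      linear_combination -w * hdk + x * hw
    · rw [← vars_eq_span, PSLib.mem_vars_iff]
      by_contra hne
      obtain ⟨w, hw⟩ := ((MvPowerSeries.isUnit_iff_constantCoeff.2 (Ne.isUnit hne)).map φ).exists_left_inv
      refine hsmall x (le_antisymm ?_ (Ideal.span_le.2 (Set.singleton_subset_iff.2 hx)))
      rw [hgen, Ideal.span_le, Set.insert_subset_iff, Set.singleton_subset_iff]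
      refine ⟨Ideal.mem_span_singleton_self x, Ideal.mem_span_singleton'.2 ⟨-(w * φ d0), ?_⟩⟩
      linear_combination -w * hdk + y * hw
  have he : IsUnit e := by
    by_contra hne
    refine not_mem_of_sub_mem hd hf3 ?_
    rw [hde, pow_succ]
    exact Ideal.mul_mem_mul hd2 (maximalIdeal_eq_vars (K := K) ▸ (mem_maximalIdeal _).2 hne)
  have hkf : RingHom.ker φ.toRingHom = Ideal.span {f} := by
    rw [hker, hde, Ideal.span_singleton_mul_right_unit he]
  obtain ⟨E⟩ := exists_equiv_of_sub_mem hd hf3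
  let e1 := Ideal.quotientEquivAlgOfEq K hkf.symm
  let e2 : (MvPowerSeries (Fin 2) K ⧸ RingHom.ker φ.toRingHom) ≃ₐ[K] C := Ideal.quotientKerAlgEquivOfSurjective (f := φ) hs
  exact ⟨(E.trans e1).trans e2⟩

end Groth.Agent.NodeAlg15
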